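import Cfsg.Agent.Lib.KnownB.G2Mult.Code

/-! Generated certificates for the triple cover of `G₂(3)`. -/

set_option autoImplicit false
set_option maxRecDepth 100000

namespace CfsgLib.KnownB.G2Mult

open CfsgLib.Chev

open CfsgLib.KnownB.Mult

/-- the elements of the certificate at `2` with words -/
def els2 : List (CO × List ℕ) := [
    (⟨⟨1162, 4612, 2148, 4672, 512, 9472, 8192⟩, 2⟩, [2, 2, 0, 0, 2, 0, 3, 1, 0, 3, 1, 0, 2, 2, 0]),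
    (⟨⟨2, 25, 18, 85, 1417, 2214, 9882⟩, 0⟩, [1, 1, 2, 3, 2, 0, 3, 2, 0, 1, 0, 2, 3]),
    (⟨⟨6741, 6440, 8792, 5696, 1536, 5376, 4096⟩, 2⟩, [0, 0, 1, 0, 1, 1, 0, 1, 1, 0, 0, 2, 0]),
    (⟨⟨6217, 6560, 4612, 4416, 5120, 512, 4096⟩, 1⟩, [1, 1, 2, 0, 1, 0, 1, 0, 2, 0, 2, 2]),
    (⟨⟨8473, 1416, 5536, 1344, 4608, 10240, 4096⟩, 1⟩, [3, 3, 0, 0, 2, 0, 1, 2, 0, 1, 0, 3, 1, 3, 3]),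
    (⟨⟨2, 38, 32, 98, 2629, 1042, 10330⟩, 2⟩, [3, 3, 3, 3, 0, 0, 2, 3, 2, 3, 2, 2, 0, 1, 2, 3, 1]),
    (⟨⟨4646, 2628, 10578, 2568, 8486, 5205, 8741⟩, 1⟩, [3, 3, 1, 1, 1, 1, 0, 0, 2, 0, 1, 3, 2, 0, 3, 1, 2, 0, 2]),
    (⟨⟨5158, 1026, 6724, 9386, 2081, 10914, 10330⟩, 2⟩, [2, 2, 3, 3, 3, 3, 1, 1, 0, 0, 1, 1, 2, 3, 1, 2, 0, 1, 0, 1, 3]),
    (⟨⟨5400, 5221, 4482, 2341, 6228, 9366, 1673⟩, 2⟩, [2, 2, 2, 2, 3, 3, 2, 2, 1, 1, 0, 0, 1, 1, 0, 0, 3, 2, 3, 1, 2, 3, 2])]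

/-- a conjugator at `2` -/
def conj2_0 : CO := ⟨⟨4646, 2628, 10578, 2568, 8486, 5205, 8741⟩, 1⟩

/-- a conjugator at `2` -/
def conj2_1 : CO := ⟨⟨5158, 1026, 6724, 9386, 2081, 10914, 10330⟩, 2⟩

/-- a conjugator at `2` -/
def conj2_2 : CO := ⟨⟨5400, 5221, 4482, 2341, 6228, 9366, 1673⟩, 2⟩

/-- certificate at `2` -/
def cert2 : Cert CO where
  n := 6
  σ := [⟨⟨1162, 4612, 2148, 4672, 512, 9472, 8192⟩, 2⟩,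
    ⟨⟨2, 25, 18, 85, 1417, 2214, 9882⟩, 0⟩,
    ⟨⟨6741, 6440, 8792, 5696, 1536, 5376, 4096⟩, 2⟩,
    ⟨⟨6217, 6560, 4612, 4416, 5120, 512, 4096⟩, 1⟩,
    ⟨⟨8473, 1416, 5536, 1344, 4608, 10240, 4096⟩, 1⟩,
    ⟨⟨2, 38, 32, 98, 2629, 1042, 10330⟩, 2⟩]
  rules := [([0, 0], []),
    ([1, 1], []),
    ([2, 2], [4]),
    ([3, 3], [4]),
    ([4, 4], []),
    ([5, 5], []),
    ([1, 0], [0, 1]),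
    ([2, 0], [0, 2, 4]),
    ([3, 0], [0, 2, 3, 4]),
    ([4, 0], [0, 4]),
    ([5, 0], [0, 1, 5]),
    ([2, 1], [1, 2]),
    ([3, 1], [1, 3, 4]),
    ([4, 1], [1, 4]),
    ([5, 1], [1, 5]),
    ([3, 2], [2, 3, 4]),
    ([4, 2], [2, 4]),
    ([5, 2], [2, 4, 5]),
    ([4, 3], [3, 4]),
    ([5, 3], [3, 5]),
    ([5, 4], [4, 5])]
  conjs := [(conj2_0, [2], [3]),
    (conj2_0, [3], [2]),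
    (conj2_0, [4], [4]),
    (conj2_0, [1], [5]),
    (conj2_0, [5], [1]),
    (conj2_1, [2], [2, 3]),
    (conj2_1, [3], [2]),
    (conj2_1, [4], [4]),
    (conj2_1, [1], [1, 3, 4]),
    (conj2_1, [5], [2, 3, 4, 5]),
    (conj2_2, [0], [0]),
    (conj2_2, [1], [4]),
    (conj2_2, [2], [0, 1, 5]),
    (conj2_2, [4], [1]),
    (conj2_2, [5], [0, 2, 4])]
  rows := [(.ovl [2] 0 [], [0, 0, 0, 0, 1, 0, 0, 0, 0, 1]),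
    (.ovl [3] 0 [], [0, 0, 1, 0, 0, 0, 0, 1, 0, 1, 0, 0, 0, 0, 0, 0, 1]),
    (.ovl [5] 0 [], [0, 1, 0, 0, 0, 0, 1, 0, 0, 0, 0]),
    (.ovl [3] 1 [], [0, 0, 0, 0, 1, 0, 0, 0, 0, 0, 0, 0, 0, 1]),
    (.ovl [2] 2 [], [0, 0, 0, 0, 0, 0, 0, 0, 0, 0, 0, 0, 0, 0, 0, 0, 1]),
    (.ovl [3] 2 [], [0, 0, 0, 0, 1, 0, 0, 0, 0, 0, 0, 0, 0, 0, 0, 0, 1, 0, 1]),
    (.ovl [5] 2 [], [0, 0, 0, 0, 1, 0, 0, 0, 0, 0, 0, 0, 0, 0, 0, 0, 1, 0, 0, 0, 1]),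
    (.ovl [3] 3 [], [0, 0, 0, 0, 0, 0, 0, 0, 0, 0, 0, 0, 0, 0, 0, 0, 0, 0, 1]),
    (.ovl [3] 6 [], [0, 0, 0, 0, 0, 0, 0, 0, 0, 1, 0, 1, 0, 1]),
    (.ovl [3] 8 [], [0, 0, 1, 0, 0, 0, 0, 0, 0, 1, 0, 0, 0, 0, 0, 1, 1, 0, 0]),
    (.ovl [5] 8 [], [0, 0, 0, 0, 0, 0, 0, 0, 0, 0, 0, 1, 1, 1, 0, 0, 0, 1, 1, 0, 1]),
    (.ovl [5] 10 [], [0, 1, 0, 0, 0, 0, 0, 0, 0, 0, 0, 0, 0, 0, 1]),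
    (.cnj 0 [0, 0] [2], [0, 0, 1, 1, 0, 0, 0, 0, 0, 0, 0, 0, 0, 0, 0, 0, 0, 0, 0, 0, 0, 0, 0, 1]),
    (.cnj 0 [3, 3] [], [0, 1, 0, 0, 0, 1, 0, 0, 0, 0, 0, 0, 0, 0, 0, 0, 0, 0, 0, 0, 0, 0, 0, 0, 0]),
    (.cnj 0 [1, 0] [0, 1, 2], [0, 0, 0, 0, 1, 0, 0, 0, 0, 0, 0, 0, 0, 0, 0, 0, 0, 0, 0, 0, 0, 0, 0, 1]),
    (.cnj 0 [3, 0] [0, 3], [0, 0, 0, 0, 0, 0, 0, 0, 0, 0, 0, 1, 0, 0, 0, 0, 0, 0, 0, 1, 0, 0, 0, 0, 0]),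
    (.cnj 5 [8, 8] [], [0, 0, 0, 1, 0, 0, 0, 0, 0, 0, 0, 0, 1, 1, 0, 0, 0, 0, 0, 0, 0, 0, 0, 0, 0, 0, 0, 0, 0, 0]),
    (.cnj 10 [11, 11] [], [0, 1, 0, 0, 1, 0, 0, 0, 0, 0, 0, 0, 0, 0, 0, 0, 0, 0, 0, 0, 0, 0, 0, 0, 0, 0, 0, 0, 0, 0, 0, 0, 0]),
    (.cnj 10 [14, 14] [], [1, 0, 1, 0, 0, 1, 0, 1, 0, 1, 0, 0, 0, 0, 0, 0, 0, 0, 0, 0, 0, 0, 0, 0, 0, 0, 0, 0, 0, 0, 0, 0, 0, 0, 0, 0])]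
  lam := [[], [0, 0, 0, 0, 0, 0, 0, 0, 0, 0, 1], [0, 0, 1, 0, 0, 0, 0, 0, 1], [], [0, 0, 1], []]
  combos := [[(1, 1), (5, 1), (7, 1), (13, 1), (17, 1), (18, 1)],
    [(4, 1), (5, 1), (7, 1), (17, 1)],
    [],
    [(4, 1), (5, 1), (7, 1), (12, 1), (14, 1)],
    [(4, 1), (5, 1), (7, 1)],
    [(4, 1), (5, 1), (7, 1), (13, 1), (17, 1)],
    [(2, 1), (4, 1), (5, 1), (7, 1), (17, 1)],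
    [(0, 1), (1, 1), (5, 1), (7, 1)],
    [],
    [(0, 1), (4, 1), (5, 1), (7, 1)],
    [],
    [(0, 1), (3, 1), (8, 1)],
    [(3, 1), (12, 1), (14, 1), (16, 1)],
    [(3, 1), (4, 1), (5, 1), (7, 1)],
    [(4, 1), (5, 1), (7, 1), (11, 1), (17, 1)],
    [(0, 1), (5, 1), (7, 1), (9, 1)],
    [(4, 1)],
    [(0, 1), (3, 1), (4, 1), (6, 1), (7, 1), (8, 1), (10, 1), (12, 1), (14, 1), (16, 1)],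
    [(7, 1)],
    [(0, 1), (3, 1), (8, 1), (15, 1)],
    [(5, 1), (6, 1), (7, 1)]]

/-- the elements of the certificate at `3` with words -/
def els3 : List (CO × List ℕ) := [
    (⟨⟨1, 36, 16, 64, 1280, 1024, 4096⟩, 1⟩, [0]),
    (⟨⟨2641, 2628, 5136, 5184, 8448, 1024, 4096⟩, 1⟩, [0, 1, 0, 0, 1, 1]),
    (⟨⟨1617, 6724, 5136, 5184, 8448, 1024, 4096⟩, 2⟩, [0, 0, 1, 0, 0, 1, 1, 0, 0]),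
    (⟨⟨1, 4, 16, 64, 256, 1024, 4096⟩, 2⟩, [0, 0, 2, 0, 0, 2, 2, 0, 2, 2]),
    (⟨⟨9, 4, 592, 320, 256, 5120, 4096⟩, 2⟩, [1]),
    (⟨⟨8321, 260, 2064, 8256, 256, 1024, 4096⟩, 2⟩, [3, 3, 1, 2, 2, 0, 1, 0, 0, 1, 1, 2, 3]),
    (⟨⟨17, 2116, 16, 1088, 8448, 1024, 4096⟩, 2⟩, [2, 2, 0, 1, 0, 0, 2]),
    (⟨⟨1, 8, 32, 64, 512, 2048, 4096⟩, 1⟩, [0, 0, 2, 2, 0, 0, 2, 2]),
    (⟨⟨2, 8, 16, 64, 256, 2048, 8192⟩, 0⟩, [1, 3, 1, 3])]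

/-- a conjugator at `3` -/
def conj3_0 : CO := ⟨⟨1, 8, 32, 64, 512, 2048, 4096⟩, 1⟩

/-- a conjugator at `3` -/
def conj3_1 : CO := ⟨⟨2, 8, 16, 64, 256, 2048, 8192⟩, 0⟩

/-- certificate at `3` -/
def cert3 : Cert CO where
  n := 7
  σ := [⟨⟨1, 36, 16, 64, 1280, 1024, 4096⟩, 1⟩,
    ⟨⟨2641, 2628, 5136, 5184, 8448, 1024, 4096⟩, 1⟩,
    ⟨⟨1617, 6724, 5136, 5184, 8448, 1024, 4096⟩, 2⟩,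
    ⟨⟨1, 4, 16, 64, 256, 1024, 4096⟩, 2⟩,
    ⟨⟨9, 4, 592, 320, 256, 5120, 4096⟩, 2⟩,
    ⟨⟨8321, 260, 2064, 8256, 256, 1024, 4096⟩, 2⟩,
    ⟨⟨17, 2116, 16, 1088, 8448, 1024, 4096⟩, 2⟩]
  rules := [([0, 0, 0], []),
    ([1, 1, 1], []),
    ([2, 2, 2], []),
    ([3, 3, 3], []),
    ([4, 4, 4], []),
    ([5, 5, 5], []),
    ([6, 6, 6], []),
    ([1, 0], [0, 1, 1, 2, 2]),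
    ([2, 0], [0, 1]),
    ([3, 0], [0, 3]),
    ([4, 0], [0, 1, 2, 4]),
    ([5, 0], [0, 3, 3, 5]),
    ([6, 0], [0, 6]),
    ([2, 1], [1, 2]),
    ([3, 1], [1, 3]),
    ([4, 1], [1, 3, 3, 4, 5]),
    ([5, 1], [1, 5]),
    ([6, 1], [1, 3, 3, 6]),
    ([3, 2], [2, 3]),
    ([4, 2], [2, 4, 5]),
    ([5, 2], [2, 5]),
    ([6, 2], [2, 3, 3, 6]),
    ([4, 3], [3, 4]),
    ([5, 3], [3, 5]),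
    ([6, 3], [3, 6]),
    ([5, 4], [4, 5]),
    ([6, 4], [4, 5, 5, 6]),
    ([6, 5], [5, 6])]
  conjs := [(conj3_0, [0], [0]),
    (conj3_0, [1], [1, 1, 3, 3, 5]),
    (conj3_0, [2], [2, 2, 5]),
    (conj3_0, [3], [3]),
    (conj3_0, [4], [4, 4]),
    (conj3_0, [5], [5]),
    (conj3_0, [6], [6, 6]),
    (conj3_1, [0], [0, 0, 3]),
    (conj3_1, [1], [1, 2]),
    (conj3_1, [2], [2, 2]),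
    (conj3_1, [3], [3]),
    (conj3_1, [4], [4]),
    (conj3_1, [5], [5, 5]),
    (conj3_1, [6], [6, 6])]
  rows := [(.ovl [1] 0 [], [0, 2, 1, 0, 0, 0, 0, 0, 0, 0, 0, 0, 0, 0]),
    (.ovl [4] 0 [], [0, 2, 2, 0, 0, 0, 0, 2, 1, 0, 0, 0, 0, 0]),
    (.ovl [5] 0 [], [0, 0, 0, 2, 0, 0, 0, 0, 0, 0, 0, 0]),
    (.ovl [4] 1 [], [0, 0, 0, 2, 0, 1, 0, 0, 0, 0, 0, 0, 0, 0, 0, 0, 0]),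
    (.ovl [3] 7 [], [0, 0, 0, 0, 0, 0, 0, 0, 0, 0, 0, 0, 0, 0, 2, 0, 0, 0, 1]),
    (.ovl [4] 7 [], [0, 0, 0, 0, 0, 2, 0, 0, 0, 2, 0, 1, 0, 0, 0, 2, 2, 0, 0, 1, 1, 0, 2]),
    (.ovl [5] 7 [], [0, 0, 0, 0, 0, 0, 0, 0, 0, 0, 0, 0, 0, 0, 2, 0, 2, 0, 2, 0, 1]),
    (.ovl [6] 7 [], [0, 0, 0, 1, 0, 0, 0, 0, 0, 2, 0, 0, 0, 0, 1, 0, 0, 2, 2, 0, 0, 1]),
    (.ovl [4] 8 [], [0, 0, 0, 0, 0, 0, 0, 0, 0, 0, 0, 1, 0, 2, 0, 2, 0, 0, 0, 1, 0, 0, 2]),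
    (.ovl [4] 9 [], [0, 0, 0, 0, 0, 0, 0, 0, 0, 0, 0, 0, 0, 0, 1, 0, 0, 0, 1, 0, 0, 0, 0]),
    (.ovl [5] 10 [], [0, 0, 0, 0, 0, 0, 0, 0, 0, 0, 0, 0, 0, 0, 1, 0, 2, 0, 1, 0, 2, 0, 2, 0, 0, 0]),
    (.ovl [6] 10 [], [0, 0, 0, 0, 0, 0, 0, 0, 0, 0, 0, 2, 0, 0, 0, 0, 0, 2, 1, 0, 0, 2, 1, 2, 0, 0, 0]),
    (.ovl [6] 11 [], [0, 0, 0, 0, 0, 0, 0, 0, 0, 0, 0, 0, 0, 0, 0, 0, 0, 0, 0, 0, 0, 0, 0, 0, 1, 0, 0, 0]),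
    (.ovl [4] 14 [], [0, 0, 0, 0, 0, 0, 0, 0, 0, 0, 0, 0, 0, 0, 0, 0, 0, 0, 0, 0, 0, 0, 0, 2]),
    (.ovl [6] 15 [], [0, 0, 0, 0, 0, 0, 0, 0, 0, 0, 0, 0, 0, 0, 0, 0, 2, 0, 0, 0, 0, 0, 2, 0, 1, 0, 0, 2]),
    (.cnj 0 [1, 1, 1] [], [0, 1, 0, 2, 0, 1, 0, 0, 0, 0, 0, 0, 0, 0, 0, 0, 0, 0, 0, 0, 0, 0, 0, 0, 0, 0, 0, 0, 0, 0]),
    (.cnj 0 [4, 4, 4] [], [0, 0, 0, 0, 1, 0, 0, 0, 0, 0, 0, 0, 0, 0, 0, 0, 0, 0, 0, 0, 0, 0, 0, 0, 0, 0, 0, 0, 0, 0, 0, 0, 0]),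
    (.cnj 0 [6, 6, 6] [], [0, 0, 0, 0, 0, 0, 1, 0, 0, 0, 0, 0, 0, 0, 0, 0, 0, 0, 0, 0, 0, 0, 0, 0, 0, 0, 0, 0, 0, 0, 0, 0, 0, 0, 0]),
    (.cnj 0 [6, 0] [0, 6], [0, 0, 0, 0, 0, 0, 0, 0, 0, 0, 0, 0, 1, 0, 0, 0, 0, 0, 0, 0, 0, 0, 0, 0, 0, 0, 0, 0, 0, 0, 0, 0, 0, 0, 0]),
    (.cnj 0 [5, 1] [1, 5], [0, 0, 0, 0, 0, 0, 0, 0, 0, 0, 0, 0, 0, 0, 0, 0, 1, 0, 0, 0, 0, 0, 0, 2, 0, 0, 0, 0, 0, 0, 0, 0, 0, 0]),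
    (.cnj 0 [5, 4] [4, 5], [0, 0, 0, 0, 0, 0, 0, 0, 0, 0, 0, 0, 0, 0, 0, 0, 0, 0, 0, 0, 0, 0, 0, 0, 0, 1, 0, 0, 0, 0, 0, 0, 0, 0]),
    (.cnj 7 [7, 7, 7] [], [1, 0, 0, 1, 0, 0, 0, 0, 0, 0, 0, 0, 0, 0, 0, 0, 0, 0, 0, 0, 0, 0, 0, 0, 0, 0, 0, 0, 0, 0, 0, 0, 0, 0, 0, 0]),
    (.cnj 7 [10, 7] [7, 10], [0, 0, 0, 0, 0, 0, 0, 0, 0, 1, 0, 0, 0, 0, 0, 0, 0, 0, 0, 0, 0, 0, 0, 0, 0, 0, 0, 0, 0, 0, 0, 0, 0, 0, 0, 0, 0, 0, 0]),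
    (.cnj 7 [12, 7] [7, 10, 10, 12], [0, 0, 0, 2, 0, 0, 0, 0, 0, 1, 0, 0, 0, 0, 0, 0, 0, 0, 0, 0, 0, 0, 0, 0, 0, 0, 0, 0, 0, 0, 0, 0, 0, 0, 0, 0, 0, 0, 1, 0, 0]),
    (.cnj 7 [11, 8] [8, 10, 10, 11, 12], [0, 0, 0, 0, 0, 0, 0, 0, 0, 0, 0, 0, 0, 0, 0, 0, 0, 0, 2, 1, 1, 0, 0, 0, 0, 0, 0, 0, 0, 0, 0, 0, 0, 0, 0, 0, 0, 0, 1, 0, 2]),
    (.cnj 7 [13, 11] [11, 12, 12, 13], [0, 0, 0, 0, 0, 0, 0, 0, 0, 0, 0, 0, 0, 0, 0, 0, 0, 0, 0, 0, 0, 0, 0, 0, 0, 0, 1, 2, 0, 0, 0, 0, 0, 0, 0, 0, 0, 0, 0, 0, 1, 0])]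
  lam := [[], [0, 0, 0, 0, 0, 0, 0, 2, 0, 0, 2], [0, 0, 0, 0, 0, 0, 0, 1, 0, 0, 2], [0, 0, 0, 0, 0, 0, 0, 0, 0, 0, 0, 2], [], [0, 0, 0, 0, 0, 0, 0, 0, 0, 0, 0, 2, 0, 0, 0, 1], []]
  combos := [[(2, 2), (21, 2)],
    [(3, 1), (15, 2)],
    [(0, 2), (3, 1), (15, 2)],
    [(2, 1)],
    [(16, 2)],
    [(2, 1), (3, 2)],
    [(17, 2)],
    [],
    [(0, 2), (1, 2), (3, 2), (15, 1)],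
    [(22, 2)],
    [],
    [],
    [(18, 2)],
    [(2, 1), (3, 2), (5, 2), (6, 1), (8, 1), (9, 1), (22, 2)],
    [(4, 2), (9, 1)],
    [],
    [(13, 1), (19, 2)],
    [(2, 2), (4, 1), (6, 2), (7, 2), (9, 2), (10, 2), (11, 2), (19, 1), (22, 2)],
    [(4, 1), (9, 1)],
    [(2, 1), (3, 2), (5, 2), (6, 2), (9, 1), (10, 1), (13, 1), (19, 2), (22, 2)],
    [(6, 2), (9, 2), (13, 1), (19, 2)],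
    [(2, 1), (6, 2), (7, 1), (9, 2), (10, 2), (11, 2), (19, 1), (22, 1)],
    [(6, 1), (10, 1), (13, 1), (19, 2)],
    [(13, 1)],
    [(12, 2)],
    [(20, 2)],
    [(2, 1), (3, 1), (4, 1), (5, 1), (6, 1), (9, 1), (10, 1), (12, 2), (13, 2), (14, 1), (19, 1), (23, 1), (24, 2), (25, 2)],
    [(6, 2), (10, 2), (12, 2), (13, 1), (14, 1), (19, 2)]]

/-- levels for the Sylow subgroup at `3`: point, words -/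
def lev3 : List (ℕ × List (List ℕ)) := [
    (0, [[], [6], [6, 6], [5], [5, 6], [1, 2], [5, 5], [1], [2, 6], [4], [4, 6], [4, 6, 6], [4, 5], [0, 4], [2, 4, 6], [4, 5, 5], [4, 5, 5, 6], [1, 1, 4], [4, 4], [4, 4, 6], [4, 4, 6, 6], [4, 4, 5], [4, 4, 5, 6], [0, 4, 4], [4, 4, 5, 5], [4, 4, 5, 5, 6], [0, 0, 4, 4, 6], [3], [3, 6], [3, 6, 6], [3, 5], [3, 5, 6], [1, 1], [3, 5, 5], [1, 3], [1, 6], [3, 4], [3, 4, 6], [3, 4, 6, 6], [3, 4, 5], [1, 4], [0, 4, 6], [3, 4, 5, 5], [1, 4, 5], [1, 2, 4], [3, 4, 4], [3, 4, 4, 6], [3, 4, 4, 6, 6], [3, 4, 4, 5], [3, 4, 4, 5, 6], [0, 3, 4, 4], [3, 4, 4, 5, 5], [3, 4, 4, 5, 5, 6], [0, 4, 4, 5], [0], [2, 5], [0, 6, 6], [3, 3, 5], [2, 5, 5], [2, 2], [1, 6, 6], [2], [2, 2, 5], [3, 3, 4], [3, 3, 4, 6], [2,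 2, 4, 5], [3, 3, 4, 5], [2, 4], [1, 4, 6], [1, 1, 4, 6], [2, 4, 5], [2, 2, 4], [3, 3, 4, 4], [2, 4, 4], [2, 2, 4, 4], [0, 4, 4, 6], [2, 4, 4, 5], [2, 2, 4, 4, 5], [0, 2, 4, 4, 5], [0, 0, 4, 4], [0, 3, 4, 4, 5]]),
    (19, [[], [1, 3, 5, 6, 6], [1, 1, 5, 5, 6]]),
    (2, [[], [0, 1, 2, 2], [1, 1, 2, 3]]),
    (1, [[], [0, 3], [0, 0, 3, 3]])]

end CfsgLib.KnownB.G2Mult
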