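import Cfsg.Agent.Lib.KnownB.G2Mult.Lift

/-! Checks of the certificates for the multiplier of the triple cover. -/

set_option autoImplicit false
set_option maxRecDepth 100000
set_option maxHeartbeats 4000000
set_option Elab.async false

namespace CfsgLib.KnownB.G2Mult

open CfsgLib.KnownB.Mult

theorem cert2_valid : cert2.Valid (code els2) 2 where
  gen := by decide +kernel
  rel := by decide +kernel
  pc := by decide +kernel
  indep := by decide +kernel
  rows := by decide +kernel
  target := by decide +kernel

theorem cert3_core : cert3.Core (code els3) 3 where
  gen := by decide +kernel
  rel := by decide +kernel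
  pc := by decide +kernel
  rows := by decide +kernel
  target := by decide +kernel

/-- the levels with their base points -/
def pts3 : List (Pts × List (List ℕ)) := lev3.map fun l => ((Fin.ofNat 378 l.1, 0), l.2)

theorem levels3_ok : Cert.levelsOK (code els3) cert3 appP eqP pts3 [] = true ∧
    3 ^ cert3.n ≤ (pts3.map fun l => l.2.length).prod := by
  refine ⟨by decide +kernel, by decide +kernel⟩

end CfsgLib.KnownB.G2Mult
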