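import Cfsg.Agent.Lib.KnownB.G2Mult.Data

/-! Checks of the points, edges and generators. -/

set_option autoImplicit false
set_option maxRecDepth 100000
set_option maxHeartbeats 4000000
set_option Elab.async false

namespace CfsgLib.KnownB.G2Mult

open CfsgLib.Chev

theorem pts_ok : ((List.range 378).all fun i =>
    Nat.beq (idx (red7 (pt i))) i && Nat.beq (idx (negV (pt i))) i) = true := by decide +kernel

/-- a valid path -/
noncomputable def pathOK : ℕ → List ℕ → ℕ → Bool
  | pr, [], j => Nat.beq pr j
  | pr, n :: l, j => Nat.blt n 378 && !Nat.beq (lab pr n) 0 && pathOK n l j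

theorem paths_ok : ((List.range 378).all fun j => pathOK 0 (pathT.get [] j) j) = true := by decide +kernel

/-- a generator moves the points and labels correctly -/
noncomputable def ptsGenOK (g : CO) (Q A : Tr ℕ) : Bool :=
  Nat.beq (A.get 0 0 % 3) (g.c % 3) && (List.range 378).all fun i =>
    Nat.blt (Q.get 0 i) 378 &&
      (eqV (app g.m (pt i)) (pt (Q.get 0 i)) || eqV (app g.m (pt i)) (negV (pt (Q.get 0 i))))

/-- a generator preserves the edges -/
noncomputable def edgeOK (Q A : Tr ℕ) : Bool :=
  (List.range 378).all fun i => (List.range 378).all fun j => Nat.beq (lab i j) 0 ||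
    !Nat.beq (lab (Q.get 0 i) (Q.get 0 j)) 0 &&
      Nat.beq ((lab (Q.get 0 i) (Q.get 0 j) + 2 * lab i j + 2 * A.get 0 i + A.get 0 j) % 3) 0

theorem genPts_ok : ((List.range 4).all fun k =>
    ptsGenOK (genC.getD k oneC) (genQ.getD k .nil) (genA.getD k .nil)) = true := by decide +kernel

theorem edge0_ok : edgeOK (genQ.getD 0 .nil) (genA.getD 0 .nil) = true := by decide +kernel

theorem edge1_ok : edgeOK (genQ.getD 1 .nil) (genA.getD 1 .nil) = true := by decide +kernel

theorem edge2_ok : edgeOK (genQ.getD 2 .nil) (genA.getD 2 .nil) = true := by decide +kernel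

theorem edge3_ok : edgeOK (genQ.getD 3 .nil) (genA.getD 3 .nil) = true := by decide +kernel

end CfsgLib.KnownB.G2Mult
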