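import Cfsg.Agent.Lib.KnownB.G2Mult.Tables
import Cfsg.Agent.S1055

/-! The action of `G₂(3)` on its seven-dimensional invariant subspace. -/

set_option autoImplicit false
set_option maxRecDepth 100000
set_option synthInstance.maxSize 4000
set_option maxHeartbeats 1000000

namespace CfsgLib.KnownB.G2Mult

open Matrix Cfsg.Lie

/-- the index set of the Lie algebra -/
abbrev J : Type := chevG2.Idx

/-- the group -/
abbrev G : Type := ↥(chevG2.group (ZMod 3))

/-- position of an index -/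
def jx : J → ℕ
  | .inl i => i.val
  | .inr r => 2 + r.val

/-- the basis of the invariant subspace -/
def Jm : Matrix J (Fin 7) (ZMod 3) := of fun a k => (((basR.getD k []).getD (jx a) 0 : ℕ) : ZMod 3)

/-- a left inverse -/
def Pm : Matrix (Fin 7) J (ZMod 3) := of fun k a => (((prjR.getD k []).getD (jx a) 0 : ℕ) : ZMod 3)

theorem Pm_Jm : Pm * Jm = 1 := by decide +kernel

/-- a root element on the subspace -/
def Rm (r : Fin 12) : Matrix (Fin 7) (Fin 7) (ZMod 3) := decM (rootR.getD r oneM)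

theorem X_Jm : ∀ (r : Fin 12) (t : ZMod 3),
    chevG2.xMat (ZMod 3) r t * Jm = Jm * Rm r ^ t.val := by decide +kernel

/-- the matrix of an element on the Lie algebra -/
def mat14 (g : G) : Matrix J J (ZMod 3) := ((g : GL J (ZMod 3)) : Matrix J J (ZMod 3))

/-- the action on the subspace -/
def rho (g : G) : Matrix (Fin 7) (Fin 7) (ZMod 3) := Pm * mat14 g * Jm

theorem invariant (g : G) : mat14 g * Jm = Jm * rho g := by
  have key : ∀ a : GL J (ZMod 3), a ∈ chevG2.group (ZMod 3) →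
      ∃ R : Matrix (Fin 7) (Fin 7) (ZMod 3), (a : Matrix J J (ZMod 3)) * Jm = Jm * R := by
    intro a ha
    induction ha using Subgroup.closure_induction with
    | mem a ha =>
      obtain ⟨r, t, e⟩ := ha
      exact ⟨_, by rw [e]; exact X_Jm r t⟩
    | one => exact ⟨1, by rw [Units.val_one, Matrix.one_mul, Matrix.mul_one]⟩
    | mul a b _ _ ha hb =>
      obtain ⟨R, hR⟩ := ha
      obtain ⟨S, hS⟩ := hb
      exact ⟨R * S, by rw [Units.val_mul, Matrix.mul_assoc, hS, ← Matrix.mul_assoc, hR, Matrix.mul_assoc]⟩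
    | inv a _ ha =>
      obtain ⟨R, hR⟩ := ha
      have h1 : Jm = ((a⁻¹ : GL J (ZMod 3)) : Matrix J J (ZMod 3)) * Jm * R := by
        rw [Matrix.mul_assoc, ← hR, ← Matrix.mul_assoc, Units.inv_mul, Matrix.one_mul]
      have h2 : (Pm * (((a⁻¹ : GL J (ZMod 3)) : Matrix J J (ZMod 3)) * Jm)) * R = 1 := by
        rw [Matrix.mul_assoc, ← h1, Pm_Jm]
      refine ⟨Pm * (((a⁻¹ : GL J (ZMod 3)) : Matrix J J (ZMod 3)) * Jm), ?_⟩
      have h3 : R * (Pm * (((a⁻¹ : GL J (ZMod 3)) : Matrix J J (ZMod 3)) * Jm)) = 1 := mul_eq_one_comm.1 h2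
      calc ((a⁻¹ : GL J (ZMod 3)) : Matrix J J (ZMod 3)) * Jm
          = ((a⁻¹ : GL J (ZMod 3)) : Matrix J J (ZMod 3)) * Jm * R *
              (Pm * (((a⁻¹ : GL J (ZMod 3)) : Matrix J J (ZMod 3)) * Jm)) := by
            rw [Matrix.mul_assoc _ R, h3, Matrix.mul_one]
        _ = _ := by rw [← h1]
  obtain ⟨R, hR⟩ := key g g.2
  have : rho g = R := by rw [rho, mat14, Matrix.mul_assoc, hR, ← Matrix.mul_assoc, Pm_Jm, Matrix.one_mul]
  rw [this]
  exact hR

theorem rho_one : rho 1 = 1 := by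
  show Pm * (1 : Matrix J J (ZMod 3)) * Jm = 1
  rw [Matrix.mul_one, Pm_Jm]

theorem rho_mul (g h : G) : rho (g * h) = rho g * rho h := by
  show Pm * (mat14 g * mat14 h) * Jm = _
  rw [Matrix.mul_assoc, Matrix.mul_assoc, invariant h, ← Matrix.mul_assoc (mat14 g), ← Matrix.mul_assoc,
    ← Matrix.mul_assoc]
  rfl

/-- the action as a homomorphism -/
def rhoH : G →* (Matrix (Fin 7) (Fin 7) (ZMod 3))ˣ :=
  MonoidHom.toHomUnits { toFun := rho, map_one' := rho_one, map_mul' := rho_mul }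

/-- a root element -/
theorem xMat_inv : ∀ r : Fin 12, chevG2.xMat (ZMod 3) r 1 * chevG2.xMat (ZMod 3) r 2 = 1 ∧
    chevG2.xMat (ZMod 3) r 2 * chevG2.xMat (ZMod 3) r 1 = 1 := by decide +kernel

/-- a root element of the group -/
def xg (r : Fin 12) : G :=
  ⟨⟨chevG2.xMat (ZMod 3) r 1, chevG2.xMat (ZMod 3) r 2, (xMat_inv r).1, (xMat_inv r).2⟩,
    Subgroup.subset_closure ⟨r, 1, rfl⟩⟩

theorem rho_xg (r : Fin 12) : rho (xg r) = Rm r := by
  show Pm * chevG2.xMat (ZMod 3) r 1 * Jm = Rm r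
  rw [Matrix.mul_assoc, X_Jm r 1, ← Matrix.mul_assoc, Pm_Jm, Matrix.one_mul]
  exact pow_one _

theorem xMat_zero : ∀ r : Fin 12, chevG2.xMat (ZMod 3) r 0 = (1 : Matrix J J (ZMod 3)) := by
  decide +kernel

theorem xMat_two : ∀ r : Fin 12,
    chevG2.xMat (ZMod 3) r 2 = chevG2.xMat (ZMod 3) r 1 * chevG2.xMat (ZMod 3) r 1 := by
  decide +kernel

theorem closure_xg : Subgroup.closure (Set.range xg) = (⊤ : Subgroup G) := by
  have key : chevG2.group (ZMod 3) ≤
      (Subgroup.closure (Set.range xg)).map (chevG2.group (ZMod 3)).subtype := by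
    refine (Subgroup.closure_le _).2 ?_
    rintro a ⟨r, t, e⟩
    have hx : (xg r : GL J (ZMod 3)) ∈
        (Subgroup.closure (Set.range xg)).map (chevG2.group (ZMod 3)).subtype :=
      Subgroup.mem_map_of_mem _ (Subgroup.subset_closure (Set.mem_range_self r))
    have ht : t = 0 ∨ t = 1 ∨ t = 2 := (show ∀ u : ZMod 3, u = 0 ∨ u = 1 ∨ u = 2 by decide) t
    rcases ht with rfl | rfl | rfl
    · have h1 : a = 1 := Units.ext (e.trans (xMat_zero r))
      rw [SetLike.mem_coe, h1]
      exact one_mem _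
    · have h1 : a = (xg r : GL J (ZMod 3)) := Units.ext e
      rw [SetLike.mem_coe, h1]
      exact hx
    · have h1 : a = (xg r : GL J (ZMod 3)) * (xg r : GL J (ZMod 3)) :=
        Units.ext (e.trans (xMat_two r))
      rw [SetLike.mem_coe, h1]
      exact mul_mem hx hx
  refine eq_top_iff.2 fun g _ => ?_
  obtain ⟨h, hh, e⟩ := key g.2
  rw [← Subtype.ext (show (h : GL J (ZMod 3)) = g from e)]
  exact hh

theorem rho_injective : Function.Injective rho := by
  have hs : IsSimpleGroup G :=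
    (Cfsg.Agent.S1055.result (F := ZMod 3) ⟨2, by decide, by decide⟩).1
  have hker : rhoH.ker = ⊥ := by
    rcases hs.eq_bot_or_eq_top_of_normal rhoH.ker inferInstance with h | h
    · exact h
    · exfalso
      have h1 : rho (xg 0) = 1 := by
        have : rhoH (xg 0) = 1 := MonoidHom.mem_ker.1 (h ▸ Subgroup.mem_top _)
        exact congrArg Units.val this
      rw [rho_xg] at h1
      exact absurd h1 (by decide +kernel)
  intro g h e
  have : rhoH g = rhoH h := Units.ext e
  exact (MonoidHom.ker_eq_bot_iff _).1 hker this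

end CfsgLib.KnownB.G2Mult
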