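import Cfsg.Agent.Lib.KnownB.G2Mult.Checks
import Cfsg.Agent.Lib.KnownB.G2Mult.Rho

/-!
The triple cover of `G₂(3)`: pairs of an element and a monomial map of the 378 points which preserves
the labelled edges.
-/

set_option autoImplicit false
set_option maxRecDepth 100000
set_option synthInstance.maxSize 4000
set_option maxHeartbeats 1000000

namespace CfsgLib.KnownB.G2Mult

open Matrix CfsgLib.Chev

/-- labelled points -/
abbrev Pts : Type := Fin 378 × ZMod 3

/-- pairs -/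
abbrev Amb : Type := G × Equiv.Perm Pts

/-- image of a point -/
def qE (e : Amb) (i : Fin 378) : Fin 378 := (e.2 (i, 0)).1

/-- label of a point -/
def aE (e : Amb) (i : Fin 378) : ZMod 3 := (e.2 (i, 0)).2

/-- the condition -/
structure Good (e : Amb) : Prop where
  shift : ∀ i t, e.2 (i, t) = (qE e i, aE e i + t)
  move : ∀ i : Fin 378, rho e.1 *ᵥ decV (pt i) = decV (pt (qE e i)) ∨
    rho e.1 *ᵥ decV (pt i) = -decV (pt (qE e i))
  edge : ∀ i j : Fin 378, lab i j ≠ 0 → lab (qE e i) (qE e j) ≠ 0 ∧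
    (lab (qE e i) (qE e j) : ZMod 3) = (lab i j : ZMod 3) + aE e i - aE e j

theorem Good.one : Good 1 :=
  ⟨fun i t => by simp [qE, aE], fun i => by left; simp [qE, rho_one, one_mulVec],
    fun i j h => by simp [qE, aE, h]⟩

theorem qE_mul {e f : Amb} (he : Good e) (hf : Good f) (i : Fin 378) :
    qE (e * f) i = qE e (qE f i) ∧ aE (e * f) i = aE e (qE f i) + aE f i := by
  have h : (e * f).2 (i, 0) = (qE e (qE f i), aE e (qE f i) + aE f i) := by
    rw [Prod.snd_mul, Equiv.Perm.mul_apply, hf.shift, add_zero, he.shift]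
  refine ⟨?_, ?_⟩
  · show ((e * f).2 (i, 0)).1 = _
    rw [h]
  · show ((e * f).2 (i, 0)).2 = _
    rw [h]

theorem Good.mul {e f : Amb} (he : Good e) (hf : Good f) : Good (e * f) := by
  refine ⟨fun i t => ?_, fun i => ?_, fun i j h => ?_⟩
  · rw [(qE_mul he hf i).1, (qE_mul he hf i).2, Prod.snd_mul, Equiv.Perm.mul_apply, hf.shift, he.shift,
      add_assoc]
  · rw [(qE_mul he hf i).1, Prod.fst_mul, rho_mul, ← mulVec_mulVec]
    rcases hf.move i with h | h <;> rcases he.move (qE f i) with h' | h' <;> rw [h]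
    · exact Or.inl h'
    · exact Or.inr h'
    · rw [mulVec_neg, h']; exact Or.inr rfl
    · rw [mulVec_neg, h', neg_neg]; exact Or.inl rfl
  · obtain ⟨h1, h2⟩ := hf.edge i j h
    obtain ⟨h3, h4⟩ := he.edge _ _ h1
    rw [(qE_mul he hf i).1, (qE_mul he hf j).1, (qE_mul he hf i).2, (qE_mul he hf j).2]
    exact ⟨h3, by rw [h4, h2]; ring⟩

theorem Good.inv {e : Amb} (he : Good e) : Good e⁻¹ := by
  have h : e⁻¹ = e ^ (orderOf e - 1) := by
    rw [inv_eq_iff_mul_eq_one, ← pow_succ', Nat.sub_add_cancel (orderOf_pos e), pow_orderOf_eq_one]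
  rw [h]
  induction orderOf e - 1 with
  | zero => rw [pow_zero]; exact Good.one
  | succ n ih => rw [pow_succ]; exact ih.mul he

/-- the cover -/
def Cov : Subgroup Amb where
  carrier := {e | Good e}
  one_mem' := Good.one
  mul_mem' := Good.mul
  inv_mem' := Good.inv

theorem idx_red (i : Fin 378) : idx (red7 (pt i)) = i ∧ idx (negV (pt i)) = i := by
  have h := List.all_eq_true.1 pts_ok i (List.mem_range.2 i.2)
  simpa [Bool.and_eq_true] using h

theorem red7_negV (v : ℕ) : red7 (negV v) = negV v :=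
  G2Three.pk_congr fun i hi => by
    rw [negV, G2Three.gv_pk _ _ hi,
      Nat.mod_eq_of_lt (show 2 * G2Three.gv v i % 3 < 4 by omega), Nat.mod_mod,
      Nat.mod_eq_of_lt (show 2 * G2Three.gv v i % 3 < 4 by omega)]

theorem qE_eq {e : Amb} (he : Good e) {m : M7} (hm : rho e.1 = decM m) (i : Fin 378) :
    (qE e i : ℕ) = img m i := by
  have hr : ∀ v, decV (app m (pt i)) = decV v → img m i = idx (red7 v) := by
    intro v hv
    rw [img, ← app_red, ← encV_decV, hv, encV_decV]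
  rcases he.move i with h | h <;> rw [hm, ← decV_app] at h
  · rw [hr _ h, (idx_red _).1]
  · rw [← decV_negV] at h
    rw [hr _ h, red7_negV, (idx_red _).2]

/-- `e` has code `x` -/
def Rep (e : Cov) (x : CO) : Prop := rho (e : Amb).1 = decM x.m ∧ aE (e : Amb) 0 = (x.c : ZMod 3)

theorem walk_eq {e : Amb} (he : Good e) {m : M7} (hm : rho e.1 = decM m) :
    ∀ (l : List ℕ) (pr : Fin 378) (j c : ℕ), pathOK pr l j = true → (c : ZMod 3) = aE e pr →
      ∀ hj : j < 378, (walk m l pr (qE e pr : ℕ) c : ZMod 3) = aE e ⟨j, hj⟩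
  | [], pr, j, c, h, hc, hj => by
    simp only [pathOK, Nat.beq_eq] at h
    subst h
    simpa [walk] using hc
  | n :: l, pr, j, c, h, hc, hj => by
    simp only [pathOK, Bool.and_eq_true, Nat.blt_eq, Bool.not_eq_true'] at h
    obtain ⟨⟨hn, hl⟩, hrest⟩ := h
    have hl' : lab (pr : ℕ) n ≠ 0 := fun h0 => by rw [h0] at hl; exact absurd hl (by decide)
    obtain ⟨-, hed⟩ := he.edge pr ⟨n, hn⟩ hl'
    rw [walk, ← qE_eq he hm ⟨n, hn⟩]
    refine walk_eq he hm l ⟨n, hn⟩ j _ hrest ?_ hj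
    rw [ZMod.natCast_mod, Nat.cast_add, Nat.cast_add, Nat.cast_mul, hc, hed,
      show ((2 : ℕ) : ZMod 3) = -1 by decide]
    ring

theorem aLab_eq {e : Cov} {x : CO} (h : Rep e x) (j : Fin 378) :
    (aLab x j : ZMod 3) = aE (e : Amb) j := by
  have hp := List.all_eq_true.1 paths_ok j (List.mem_range.2 j.2)
  have := walk_eq e.2 h.1 _ 0 j (x.c % 3) hp (by rw [ZMod.natCast_mod]; exact h.2.symm) j.2
  rw [qE_eq e.2 h.1 0] at this
  exact this

theorem Rep.mul {e f : Cov} {x y : CO} (he : Rep e x) (hf : Rep f y) : Rep (e * f) (mulC x y) := by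
  refine ⟨?_, ?_⟩
  · show rho ((e : Amb).1 * (f : Amb).1) = _
    rw [rho_mul, he.1, hf.1, mulC, decM_mul]
  · show aE ((e : Amb) * (f : Amb)) 0 = _
    rw [(qE_mul e.2 f.2 0).2, ← aLab_eq he, hf.2, qE_eq f.2 hf.1, mulC, ZMod.natCast_mod, Nat.cast_add,
      add_comm]
    rfl

theorem rep_one : Rep 1 oneC := ⟨by rw [oneC, decM_one]; exact rho_one, by simp [aE, oneC]⟩

theorem eq_of_fst {e f : Cov} (h1 : (e : Amb).1 = (f : Amb).1) (h2 : aE (e : Amb) 0 = aE (f : Amb) 0) :
    e = f := by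
  obtain ⟨⟨g, π⟩, he⟩ := e
  obtain ⟨⟨g', π'⟩, hf⟩ := f
  simp only at h1
  subst h1
  have hex : ∃ m, rho g = decM m := by
    refine ⟨⟨encV fun i => rho g i 0, encV fun i => rho g i 1, encV fun i => rho g i 2,
      encV fun i => rho g i 3, encV fun i => rho g i 4, encV fun i => rho g i 5, encV fun i => rho g i 6⟩, ?_⟩
    ext i j
    have hd : ∀ u : Fin 7 → ZMod 3, decV (encV u) i = u i := fun u => by
      rw [decV, encV, G2Three.gv_pk _ _ i.2, dif_pos i.2,
        Nat.mod_eq_of_lt (lt_trans (ZMod.val_lt _) (by norm_num)), ZMod.natCast_zmod_val]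
    have hc : decV (col ⟨encV fun k => rho g k 0, encV fun k => rho g k 1, encV fun k => rho g k 2,
        encV fun k => rho g k 3, encV fun k => rho g k 4, encV fun k => rho g k 5,
        encV fun k => rho g k 6⟩ j) i = decV (encV fun k => rho g k j) i := by
      fin_cases j <;> rfl
    exact (hc.trans (hd _)).symm
  obtain ⟨m, hm⟩ := hex
  let x : CO := ⟨m, (aE ((g, π) : Amb) 0).val⟩
  have hex : Rep ⟨(g, π), he⟩ x := ⟨hm, (ZMod.natCast_zmod_val _).symm⟩
  have hfx : Rep ⟨(g, π'), hf⟩ x := ⟨hm, h2 ▸ (ZMod.natCast_zmod_val _).symm⟩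
  refine Subtype.ext (Prod.ext rfl (Equiv.ext fun ⟨i, t⟩ => ?_))
  show π (i, t) = π' (i, t)
  rw [he.shift i t, hf.shift i t]
  show ((qE (g, π) i, aE (g, π) i + t) : Pts) = (qE (g, π') i, aE (g, π') i + t)
  rw [← aLab_eq hex i, ← aLab_eq hfx i]
  refine Prod.ext (Fin.ext ?_) rfl
  exact (qE_eq he hm i).trans (qE_eq hf hm i).symm

theorem eqC_iff {e f : Cov} {x y : CO} (he : Rep e x) (hf : Rep f y) : eqC x y = true ↔ e = f := by
  rw [eqC, Bool.and_eq_true, eqM_iff, ← he.1, ← hf.1, Nat.beq_eq,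
    show x.c % 3 = y.c % 3 ↔ (x.c : ZMod 3) = y.c from (ZMod.natCast_eq_natCast_iff' _ _ 3).symm,
    ← he.2, ← hf.2]
  exact ⟨fun h => eq_of_fst (rho_injective h.1) h.2, by rintro rfl; exact ⟨rfl, rfl⟩⟩

theorem Rep.of_eqC {e : Cov} {x y : CO} (he : Rep e x) (h : eqC x y = true) : Rep e y := by
  simp only [eqC, Bool.and_eq_true, eqM_iff, Nat.beq_eq] at h
  exact ⟨he.1.trans h.1, he.2.trans ((ZMod.natCast_eq_natCast_iff' _ _ 3).2 h.2)⟩

end CfsgLib.KnownB.G2Mult
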