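import Cfsg.Agent.Lib.KnownB.G2Mult.Code

/-! Generated data for the triple cover of `G₂(3)`. -/

set_option autoImplicit false
set_option maxRecDepth 100000

namespace CfsgLib.KnownB.G2Mult

open CfsgLib.Chev

/-- the generators -/
def genC : List CO := [⟨⟨1, 36, 16, 64, 1280, 1024, 4096⟩, 1⟩,
    ⟨⟨9, 4, 592, 320, 256, 5120, 4096⟩, 2⟩,
    ⟨⟨1, 4, 24, 64, 256, 1280, 4096⟩, 0⟩,
    ⟨⟨1, 6, 16, 96, 416, 1024, 5120⟩, 2⟩]

/-- permutations of the generators -/
def genQ : List (Tr ℕ) := [(.node 0 (.node 3 (.node 8 (.node 7 (.node 34 (.node 60 (.node 72 (.node 127 (.node 348 .nil .nil) .nil) (.node 236 (.node 287 .nil .nil) .nil)) (.node 161 (.node 254 (.node 223 .nil .nil) .nil) (.node 319 (.node 344 .nil .nil) .nil))) (.node 9 (.node 24 (.node 162 (.node 153 .nil .nil) .nil) (.node 207 (.node 373 .nil .nil) .nil)) (.node 190 (.node 233 (.node 371 .nil .nil) .nil) (.node 337 (.node 239 .nil .nil) .nil)))) (.node 23 (.node 35 (.node 129 (.node 217 (.node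 243 .nil .nil) .nil) (.node 300 (.node 327 .nil .nil) .nil)) (.node 103 (.node 90 (.node 226 .nil .nil) .nil) (.node 205 (.node 359 .nil .nil) .nil))) (.node 100 (.node 87 (.node 246 (.node 232 .nil .nil) .nil) (.node 130 (.node 255 .nil .nil) .nil)) (.node 163 (.node 159 (.node 201 .nil .nil) .nil) (.node 289 (.node 322 .nil .nil) .nil))))) (.node 20 (.node 19 (.node 68 (.node 121 (.node 212 (.node 119 .nil .nil) .nil) (.node 139 (.node 272 .nil .nil) .nil)) (.node 166 (.node 259 (.node 303 .nil .nil) .nil) (.node 324 (.node 351 .nil .nil) .nil))) (.node 51 (.node 140 (.node 174 (.node 360 .nil .nil) .nil) (.node 215 (.node 376 .nil .nil) .nil)) (.node 56 (.node 284 (.node 366 .nil .nil) .nil) (.node 241 (.node 291 .nil .nil) .nil)))) (.node 30 (.node 77 (.node 133 (.node 158 (.node 317 .nil .nil) .nil) (.node 302 (.node 368 .nil .nil) .nil)) (.node 31 (.node 160 (.node 116 .nil .nil) .nil) (.node 331 (.node 197 .nil .nil) .nil))) (.node 108 (.node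 91 (.node 218 (.node 283 .nil .nil) .nil) (.node 114 (.node 261 .nil .nil) .nil)) (.node 204 (.node 85 (.node 356 .nil .nil) .nil) (.node 313 .nil .nil)))))) (.node 11 (.node 21 (.node 15 (.node 66 (.node 95 (.node 208 (.node 304 .nil .nil) .nil) (.node 193 (.node 342 .nil .nil) .nil)) (.node 165 (.node 65 (.node 253 .nil .nil) .nil) (.node 171 (.node 336 .nil .nil) .nil))) (.node 49 (.node 82 (.node 234 (.node 326 .nil .nil) .nil) (.node 256 (.node 367 .nil .nil) .nil)) (.node 112 (.node 181 (.node 231 .nil .nil) .nil) (.node 263 (.node 369 .nil .nil) .nil)))) (.node 25 (.node 41 (.node 73 (.node 222 (.node 135 .nil .nil) .nil) (.node 262 (.node 341 .nil .nil) .nil)) (.node 59 (.node 169 (.node 318 .nil .nil) .nil) (.node 102 (.node 374 .nil .nil) .nil))) (.node 57 (.node 81 (.node 220 (.node 173 .nil .nil) .nil) (.node 265 (.node 357 .nil .nil) .nil)) (.node 141 (.node 185 (.node 184 .nil .nil) .nil) (.node 248 (.node 377 .nil .nil) .nil)))))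 (.node 29 (.node 47 (.node 37 (.node 63 (.node 104 (.node 352 .nil .nil) .nil) (.node 298 (.node 375 .nil .nil) .nil)) (.node 172 (.node 54 (.node 353 .nil .nil) .nil) (.node 123 (.node 350 .nil .nil) .nil))) (.node 53 (.node 109 (.node 149 (.node 277 .nil .nil) .nil) (.node 74 (.node 230 .nil .nil) .nil)) (.node 199 (.node 110 (.node 307 .nil .nil) .nil) (.node 282 (.node 270 .nil .nil) .nil)))) (.node 58 (.node 45 (.node 50 (.node 67 (.node 269 .nil .nil) .nil) (.node 305 (.node 301 .nil .nil) .nil)) (.node 187 (.node 189 (.node 372 .nil .nil) .nil) (.node 124 (.node 365 .nil .nil) .nil))) (.node 27 (.node 157 (.node 106 (.node 209 .nil .nil) .nil) (.node 312 (.node 328 .nil .nil) .nil)) (.node 125 (.node 281 (.node 194 .nil .nil) .nil) (.node 247 .nil .nil))))))) (.node 2 (.node 12 (.node 1 (.node 33 (.node 6 (.node 113 (.node 128 (.node 285 .nil .nil) .nil) (.node 192 (.node 279 .nil .nil) .nil)) (.node 96 (.node 225 (.node 257 .nil .nil) .nil)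 (.node 227 (.node 347 .nil .nil) .nil))) (.node 48 (.node 94 (.node 188 (.node 258 .nil .nil) .nil) (.node 71 (.node 293 .nil .nil) .nil)) (.node 64 (.node 278 (.node 288 .nil .nil) .nil) (.node 338 (.node 235 .nil .nil) .nil)))) (.node 42 (.node 76 (.node 69 (.node 219 (.node 99 .nil .nil) .nil) (.node 142 (.node 316 .nil .nil) .nil)) (.node 75 (.node 266 (.node 249 .nil .nil) .nil) (.node 320 (.node 354 .nil .nil) .nil))) (.node 62 (.node 150 (.node 245 (.node 364 .nil .nil) .nil) (.node 216 (.node 355 .nil .nil) .nil)) (.node 202 (.node 251 (.node 196 .nil .nil) .nil) (.node 296 (.node 242 .nil .nil) .nil))))) (.node 10 (.node 5 (.node 70 (.node 39 (.node 213 (.node 131 .nil .nil) .nil) (.node 221 (.node 224 .nil .nil) .nil)) (.node 46 (.node 164 (.node 144 .nil .nil) .nil) (.node 200 (.node 250 .nil .nil) .nil))) (.node 80 (.node 84 (.node 240 (.node 361 .nil .nil) .nil) (.node 260 (.node 321 .nil .nil) .nil)) (.node 198 (.node 180 (.node 176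 .nil .nil) .nil) (.node 88 (.node 333 .nil .nil) .nil)))) (.node 28 (.node 44 (.node 18 (.node 118 (.node 111 .nil .nil) .nil) (.node 229 (.node 179 .nil .nil) .nil)) (.node 105 (.node 86 (.node 117 .nil .nil) .nil) (.node 334 (.node 330 .nil .nil) .nil))) (.node 107 (.node 92 (.node 151 (.node 332 .nil .nil) .nil) (.node 271 (.node 343 .nil .nil) .nil)) (.node 146 (.node 292 (.node 349 .nil .nil) .nil) (.node 306 .nil .nil)))))) (.node 14 (.node 4 (.node 40 (.node 17 (.node 16 (.node 211 (.node 323 .nil .nil) .nil) (.node 267 (.node 325 .nil .nil) .nil)) (.node 167 (.node 122 (.node 290 .nil .nil) .nil) (.node 214 (.node 275 .nil .nil) .nil))) (.node 43 (.node 89 (.node 237 (.node 147 .nil .nil) .nil) (.node 120 (.node 148 .nil .nil) .nil)) (.node 136 (.node 178 (.node 370 .nil .nil) .nil) (.node 339 (.node 252 .nil .nil) .nil)))) (.node 26 (.node 79 (.node 132 (.node 138 (.node 154 .nil .nil) .nil) (.node 210 (.node 280 .nil .nil) .nil)) (.node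 93 (.node 145 (.node 363 .nil .nil) .nil) (.node 170 (.node 362 .nil .nil) .nil))) (.node 13 (.node 98 (.node 168 (.node 152 .nil .nil) .nil) (.node 314 (.node 297 .nil .nil) .nil)) (.node 143 (.node 203 (.node 155 .nil .nil) .nil) (.node 315 .nil .nil))))) (.node 32 (.node 22 (.node 36 (.node 38 (.node 134 (.node 311 .nil .nil) .nil) (.node 299 (.node 310 .nil .nil) .nil)) (.node 175 (.node 264 (.node 294 .nil .nil) .nil) (.node 329 (.node 358 .nil .nil) .nil))) (.node 97 (.node 101 (.node 244 (.node 308 .nil .nil) .nil) (.node 295 (.node 340 .nil .nil) .nil)) (.node 83 (.node 137 (.node 273 .nil .nil) .nil) (.node 156 (.node 276 .nil .nil) .nil)))) (.node 61 (.node 55 (.node 78 (.node 228 (.node 335 .nil .nil) .nil) (.node 238 (.node 191 .nil .nil) .nil)) (.node 177 (.node 274 (.node 186 .nil .nil) .nil) (.node 126 (.node 309 .nil .nil) .nil))) (.node 115 (.node 52 (.node 195 (.node 286 .nil .nil) .nil) (.node 182 (.node 345 .nil .nil) .nil))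 (.node 206 (.node 268 (.node 346 .nil .nil) .nil) (.node 183 .nil .nil)))))))),
    (.node 1 (.node 4 (.node 9 (.node 2 (.node 30 (.node 63 (.node 116 (.node 123 (.node 198 .nil .nil) .nil) (.node 60 (.node 146 .nil .nil) .nil)) (.node 160 (.node 255 (.node 297 .nil .nil) .nil) (.node 320 (.node 335 .nil .nil) .nil))) (.node 19 (.node 76 (.node 148 (.node 100 .nil .nil) .nil) (.node 200 (.node 260 .nil .nil) .nil)) (.node 191 (.node 180 (.node 311 .nil .nil) .nil) (.node 168 (.node 371 .nil .nil) .nil)))) (.node 24 (.node 75 (.node 16 (.node 93 (.node 314 .nil .nil) .nil) (.node 245 (.node 376 .nil .nil) .nil)) (.node 177 (.node 265 (.node 288 .nil .nil) .nil) (.node 331 (.node 272 .nil .nil) .nil))) (.node 98 (.node 89 (.node 219 (.node 103 .nil .nil) .nil) (.node 252 (.node 238 .nil .nil) .nil)) (.node 72 (.node 133 (.node 364 .nil .nil) .nil) (.node 343 (.node 366 .nil .nil) .nil))))) (.node 26 (.node 42 (.node 69 (.node 122 (.node 201 (.node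 318 .nil .nil) .nil) (.node 61 (.node 262 .nil .nil) .nil)) (.node 113 (.node 261 (.node 234 .nil .nil) .nil) (.node 220 (.node 286 .nil .nil) .nil))) (.node 11 (.node 139 (.node 239 (.node 101 .nil .nil) .nil) (.node 253 (.node 251 .nil .nil) .nil)) (.node 197 (.node 110 (.node 129 .nil .nil) .nil) (.node 95 (.node 350 .nil .nil) .nil)))) (.node 54 (.node 12 (.node 130 (.node 224 (.node 204 .nil .nil) .nil) (.node 136 (.node 258 .nil .nil) .nil)) (.node 184 (.node 271 (.node 223 .nil .nil) .nil) (.node 86 (.node 317 .nil .nil) .nil))) (.node 109 (.node 49 (.node 88 (.node 291 .nil .nil) .nil) (.node 217 (.node 334 .nil .nil) .nil)) (.node 70 (.node 246 (.node 341 .nil .nil) .nil) (.node 284 .nil .nil)))))) (.node 7 (.node 22 (.node 6 (.node 64 (.node 118 (.node 209 (.node 300 .nil .nil) .nil) (.node 264 (.node 281 .nil .nil) .nil)) (.node 55 (.node 241 (.node 268 .nil .nil) .nil) (.node 302 (.node 163 .nil .nil) .nil))) (.node 81 (.node 91 (.node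 235 (.node 358 .nil .nil) .nil) (.node 307 (.node 228 .nil .nil) .nil)) (.node 194 (.node 279 (.node 373 .nil .nil) .nil) (.node 157 (.node 375 .nil .nil) .nil)))) (.node 50 (.node 8 (.node 131 (.node 155 (.node 338 .nil .nil) .nil) (.node 73 (.node 290 .nil .nil) .nil)) (.node 46 (.node 107 (.node 269 .nil .nil) .nil) (.node 333 (.node 342 .nil .nil) .nil))) (.node 20 (.node 84 (.node 143 (.node 365 .nil .nil) .nil) (.node 151 (.node 361 .nil .nil) .nil)) (.node 203 (.node 289 (.node 215 .nil .nil) .nil) (.node 132 (.node 356 .nil .nil) .nil))))) (.node 17 (.node 48 (.node 68 (.node 126 (.node 216 (.node 353 .nil .nil) .nil) (.node 277 (.node 202 .nil .nil) .nil)) (.node 173 (.node 263 (.node 181 .nil .nil) .nil) (.node 328 (.node 377 .nil .nil) .nil))) (.node 94 (.node 105 (.node 53 (.node 115 .nil .nil) .nil) (.node 312 (.node 360 .nil .nil) .nil)) (.node 33 (.node 190 (.node 213 .nil .nil) .nil) (.node 298 (.node 340 .nil .nil) .nil)))) (.node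 59 (.node 57 (.node 21 (.node 225 (.node 287 .nil .nil) .nil) (.node 207 (.node 166 .nil .nil) .nil)) (.node 29 (.node 275 (.node 325 .nil .nil) .nil) (.node 336 (.node 321 .nil .nil) .nil))) (.node 114 (.node 156 (.node 161 (.node 175 .nil .nil) .nil) (.node 316 (.node 178 .nil .nil) .nil)) (.node 119 (.node 280 (.node 322 .nil .nil) .nil) (.node 346 .nil .nil))))))) (.node 5 (.node 0 (.node 18 (.node 36 (.node 65 (.node 117 (.node 66 (.node 257 .nil .nil) .nil) (.node 196 (.node 299 .nil .nil) .nil)) (.node 164 (.node 243 (.node 362 .nil .nil) .nil) (.node 83 (.node 294 .nil .nil) .nil))) (.node 77 (.node 96 (.node 174 (.node 274 .nil .nil) .nil) (.node 152 (.node 242 .nil .nil) .nil)) (.node 192 (.node 56 (.node 267 .nil .nil) .nil) (.node 162 (.node 250 .nil .nil) .nil)))) (.node 10 (.node 25 (.node 125 (.node 121 (.node 296 .nil .nil) .nil) (.node 205 (.node 372 .nil .nil) .nil)) (.node 179 (.node 147 (.node 193 .nil .nil) .nil) (.node 206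 (.node 315 .nil .nil) .nil))) (.node 102 (.node 137 (.node 248 (.node 154 .nil .nil) .nil) (.node 183 (.node 368 .nil .nil) .nil)) (.node 128 (.node 169 (.node 309 .nil .nil) .nil) (.node 208 (.node 348 .nil .nil) .nil))))) (.node 28 (.node 45 (.node 71 (.node 124 (.node 214 (.node 351 .nil .nil) .nil) (.node 112 (.node 187 .nil .nil) .nil)) (.node 171 (.node 80 (.node 329 .nil .nil) .nil) (.node 326 (.node 357 .nil .nil) .nil))) (.node 92 (.node 87 (.node 153 (.node 144 .nil .nil) .nil) (.node 310 (.node 305 .nil .nil) .nil)) (.node 31 (.node 285 (.node 226 .nil .nil) .nil) (.node 108 (.node 229 .nil .nil) .nil)))) (.node 43 (.node 82 (.node 134 (.node 227 (.node 185 .nil .nil) .nil) (.node 304 (.node 259 .nil .nil) .nil)) (.node 186 (.node 273 (.node 256 .nil .nil) .nil) (.node 319 (.node 303 .nil .nil) .nil))) (.node 111 (.node 78 (.node 135 (.node 339 .nil .nil) .nil) (.node 140 (.node 327 .nil .nil) .nil)) (.node 37 (.node 170 (.node 278 .nil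 .nil) .nil) (.node 313 .nil .nil)))))) (.node 13 (.node 23 (.node 41 (.node 67 (.node 120 (.node 39 (.node 231 .nil .nil) .nil) (.node 99 (.node 363 .nil .nil) .nil)) (.node 97 (.node 222 (.node 292 .nil .nil) .nil) (.node 210 (.node 323 .nil .nil) .nil))) (.node 40 (.node 138 (.node 236 (.node 359 .nil .nil) .nil) (.node 308 (.node 167 .nil .nil) .nil)) (.node 195 (.node 282 (.node 232 .nil .nil) .nil) (.node 237 (.node 352 .nil .nil) .nil)))) (.node 51 (.node 47 (.node 62 (.node 44 (.node 355 .nil .nil) .nil) (.node 301 (.node 142 .nil .nil) .nil)) (.node 182 (.node 270 (.node 199 .nil .nil) .nil) (.node 283 (.node 295 .nil .nil) .nil))) (.node 106 (.node 27 (.node 189 (.node 349 .nil .nil) .nil) (.node 158 (.node 211 .nil .nil) .nil)) (.node 34 (.node 244 (.node 165 .nil .nil) .nil) (.node 344 .nil .nil))))) (.node 15 (.node 3 (.node 74 (.node 127 (.node 79 (.node 354 .nil .nil) .nil) (.node 159 (.node 337 .nil .nil) .nil)) (.node 176 (.node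 233 (.node 370 .nil .nil) .nil) (.node 330 (.node 172 .nil .nil) .nil))) (.node 90 (.node 145 (.node 218 (.node 221 .nil .nil) .nil) (.node 249 (.node 345 .nil .nil) .nil)) (.node 32 (.node 58 (.node 374 .nil .nil) .nil) (.node 324 (.node 212 .nil .nil) .nil)))) (.node 14 (.node 85 (.node 52 (.node 230 (.node 188 .nil .nil) .nil) (.node 306 (.node 254 .nil .nil) .nil)) (.node 104 (.node 276 (.node 141 .nil .nil) .nil) (.node 247 (.node 369 .nil .nil) .nil))) (.node 38 (.node 149 (.node 150 (.node 266 .nil .nil) .nil) (.node 240 (.node 367 .nil .nil) .nil)) (.node 35 (.node 293 (.node 332 .nil .nil) .nil) (.node 347 .nil .nil)))))))),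
    (.node 0 (.node 1 (.node 10 (.node 17 (.node 2 (.node 31 (.node 63 (.node 66 (.node 257 .nil .nil) .nil) (.node 196 (.node 343 .nil .nil) .nil)) (.node 162 (.node 256 (.node 367 .nil .nil) .nil) (.node 321 (.node 370 .nil .nil) .nil))) (.node 43 (.node 79 (.node 161 (.node 195 .nil .nil) .nil) (.node 207 (.node 352 .nil .nil) .nil)) (.node 192 (.node 277 (.node 366 .nil .nil) .nil) (.node 304 (.node 341 .nil .nil) .nil)))) (.node 50 (.node 39 (.node 124 (.node 218 (.node 263 .nil .nil) .nil) (.node 299 (.node 305 .nil .nil) .nil)) (.node 133 (.node 167 (.node 344 .nil .nil) .nil) (.node 178 (.node 301 .nil .nil) .nil))) (.node 11 (.node 148 (.node 49 (.node 183 .nil .nil) .nil) (.node 283 (.node 235 .nil .nil) .nil)) (.node 71 (.node 176 (.node 369 .nil .nil) .nil) (.node 145 (.node 310 .nil .nil) .nil))))) (.node 27 (.node 12 (.node 70 (.node 67 (.node 131 (.node 174 .nil .nil) .nil) (.node 182 (.node 335 .nil .nil) .nil)) (.node 169 (.node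 229 (.node 214 .nil .nil) .nil) (.node 164 (.node 346 .nil .nil) .nil))) (.node 90 (.node 141 (.node 204 (.node 307 .nil .nil) .nil) (.node 213 (.node 347 .nil .nil) .nil)) (.node 104 (.node 285 (.node 226 .nil .nil) .nil) (.node 240 (.node 360 .nil .nil) .nil)))) (.node 55 (.node 41 (.node 75 (.node 225 (.node 248 .nil .nil) .nil) (.node 227 (.node 282 .nil .nil) .nil)) (.node 185 (.node 114 (.node 365 .nil .nil) .nil) (.node 319 (.node 188 .nil .nil) .nil))) (.node 45 (.node 155 (.node 217 (.node 132 .nil .nil) .nil) (.node 81 (.node 280 .nil .nil) .nil)) (.node 120 (.node 187 (.node 269 .nil .nil) .nil) (.node 334 .nil .nil)))))) (.node 13 (.node 23 (.node 14 (.node 33 (.node 65 (.node 210 (.node 329 .nil .nil) .nil) (.node 60 (.node 245 .nil .nil) .nil)) (.node 51 (.node 84 (.node 194 .nil .nil) .nil) (.node 82 (.node 372 .nil .nil) .nil))) (.node 88 (.node 137 (.node 236 (.node 261 .nil .nil) .nil) (.node 308 (.node 348 .nil .nil) .nil)) (.node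 107 (.node 216 (.node 228 .nil .nil) .nil) (.node 87 (.node 212 .nil .nil) .nil)))) (.node 3 (.node 47 (.node 73 (.node 219 (.node 265 .nil .nil) .nil) (.node 201 (.node 255 .nil .nil) .nil)) (.node 109 (.node 268 (.node 371 .nil .nil) .nil) (.node 233 (.node 295 .nil .nil) .nil))) (.node 105 (.node 153 (.node 157 (.node 298 .nil .nil) .nil) (.node 91 (.node 362 .nil .nil) .nil)) (.node 140 (.node 113 (.node 234 .nil .nil) .nil) (.node 313 (.node 377 .nil .nil) .nil))))) (.node 30 (.node 21 (.node 72 (.node 127 (.node 56 (.node 328 .nil .nil) .nil) (.node 179 (.node 242 .nil .nil) .nil)) (.node 129 (.node 165 (.node 293 .nil .nil) .nil) (.node 172 (.node 357 .nil .nil) .nil))) (.node 95 (.node 59 (.node 243 (.node 110 .nil .nil) .nil) (.node 286 (.node 287 .nil .nil) .nil)) (.node 117 (.node 181 (.node 355 .nil .nil) .nil) (.node 223 (.node 326 .nil .nil) .nil)))) (.node 20 (.node 85 (.node 77 (.node 44 (.node 350 .nil .nil) .nil) (.node 205 (.node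 333 .nil .nil) .nil)) (.node 57 (.node 209 (.node 336 .nil .nil) .nil) (.node 274 (.node 199 .nil .nil) .nil))) (.node 58 (.node 158 (.node 89 (.node 197 .nil .nil) .nil) (.node 317 (.node 330 .nil .nil) .nil)) (.node 36 (.node 284 (.node 170 .nil .nil) .nil) (.node 312 .nil .nil))))))) (.node 6 (.node 4 (.node 19 (.node 37 (.node 32 (.node 64 (.node 35 (.node 292 .nil .nil) .nil) (.node 264 (.node 281 .nil .nil) .nil)) (.node 121 (.node 222 (.node 368 .nil .nil) .nil) (.node 302 (.node 323 .nil .nil) .nil))) (.node 48 (.node 136 (.node 232 (.node 325 .nil .nil) .nil) (.node 147 (.node 359 .nil .nil) .nil)) (.node 193 (.node 279 (.node 152 .nil .nil) .nil) (.node 149 (.node 342 .nil .nil) .nil)))) (.node 40 (.node 22 (.node 16 (.node 220 (.node 111 .nil .nil) .nil) (.node 200 (.node 273 .nil .nil) .nil)) (.node 180 (.node 267 (.node 191 .nil .nil) .nil) (.node 332 (.node 297 .nil .nil) .nil))) (.node 103 (.node 151 (.node 239 (.node 339 .nil .nil)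 .nil) (.node 102 (.node 361 .nil .nil) .nil)) (.node 126 (.node 289 (.node 266 .nil .nil) .nil) (.node 168 (.node 373 .nil .nil) .nil))))) (.node 8 (.node 46 (.node 68 (.node 125 (.node 215 (.node 294 .nil .nil) .nil) (.node 296 (.node 324 .nil .nil) .nil)) (.node 61 (.node 203 (.node 159 .nil .nil) .nil) (.node 327 (.node 356 .nil .nil) .nil))) (.node 93 (.node 143 (.node 241 (.node 306 .nil .nil) .nil) (.node 311 (.node 337 .nil .nil) .nil)) (.node 116 (.node 115 (.node 173 .nil .nil) .nil) (.node 244 (.node 358 .nil .nil) .nil)))) (.node 18 (.node 83 (.node 76 (.node 96 (.node 99 .nil .nil) .nil) (.node 208 (.node 144 .nil .nil) .nil)) (.node 108 (.node 163 (.node 290 .nil .nil) .nil) (.node 247 (.node 375 .nil .nil) .nil))) (.node 112 (.node 156 (.node 150 (.node 254 .nil .nil) .nil) (.node 80 (.node 340 .nil .nil) .nil)) (.node 119 (.node 278 (.node 322 .nil .nil) .nil) (.node 291 .nil .nil)))))) (.node 15 (.node 25 (.node 42 (.node 34 (.node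 69 (.node 130 (.node 349 .nil .nil) .nil) (.node 184 (.node 270 .nil .nil) .nil)) (.node 26 (.node 53 (.node 198 .nil .nil) .nil) (.node 275 (.node 351 .nil .nil) .nil))) (.node 9 (.node 139 (.node 238 (.node 202 .nil .nil) .nil) (.node 101 (.node 338 .nil .nil) .nil)) (.node 106 (.node 142 (.node 318 .nil .nil) .nil) (.node 272 (.node 354 .nil .nil) .nil)))) (.node 54 (.node 28 (.node 74 (.node 224 (.node 253 .nil .nil) .nil) (.node 237 (.node 258 .nil .nil) .nil)) (.node 171 (.node 221 (.node 320 .nil .nil) .nil) (.node 249 (.node 250 .nil .nil) .nil))) (.node 100 (.node 97 (.node 251 (.node 230 .nil .nil) .nil) (.node 78 (.node 309 .nil .nil) .nil)) (.node 122 (.node 186 (.node 314 .nil .nil) .nil) (.node 345 .nil .nil))))) (.node 7 (.node 24 (.node 38 (.node 128 (.node 134 (.node 260 .nil .nil) .nil) (.node 300 (.node 376 .nil .nil) .nil)) (.node 177 (.node 166 (.node 262 .nil .nil) .nil) (.node 331 (.node 353 .nil .nil) .nil))) (.node 98 (.node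 146 (.node 92 (.node 363 .nil .nil) .nil) (.node 252 (.node 288 .nil .nil) .nil)) (.node 118 (.node 271 (.node 364 .nil .nil) .nil) (.node 246 (.node 303 .nil .nil) .nil)))) (.node 5 (.node 29 (.node 135 (.node 231 (.node 316 .nil .nil) .nil) (.node 259 (.node 154 .nil .nil) .nil)) (.node 175 (.node 206 (.node 138 .nil .nil) .nil) (.node 86 (.node 374 .nil .nil) .nil))) (.node 62 (.node 160 (.node 52 (.node 211 .nil .nil) .nil) (.node 94 (.node 315 .nil .nil) .nil)) (.node 123 (.node 190 (.node 276 .nil .nil) .nil) (.node 189 .nil .nil)))))))),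
    (.node 2 (.node 5 (.node 11 (.node 0 (.node 35 (.node 64 (.node 15 (.node 37 (.node 151 .nil .nil) .nil) (.node 270 (.node 363 .nil .nil) .nil)) (.node 163 (.node 257 (.node 197 .nil .nil) .nil) (.node 298 (.node 224 .nil .nil) .nil))) (.node 79 (.node 94 (.node 212 (.node 356 .nil .nil) .nil) (.node 125 (.node 284 .nil .nil) .nil)) (.node 90 (.node 187 (.node 347 .nil .nil) .nil) (.node 275 (.node 354 .nil .nil) .nil)))) (.node 51 (.node 69 (.node 130 (.node 209 (.node 321 .nil .nil) .nil) (.node 132 (.node 180 .nil .nil) .nil)) (.node 178 (.node 266 (.node 184 .nil .nil) .nil) (.node 141 (.node 358 .nil .nil) .nil))) (.node 101 (.node 149 (.node 247 (.node 314 .nil .nil) .nil) (.node 299 (.node 156 .nil .nil) .nil)) (.node 201 (.node 288 (.node 161 .nil .nil) .nil) (.node 255 (.node 355 .nil .nil) .nil))))) (.node 12 (.node 44 (.node 63 (.node 123 (.node 120 (.node 311 .nil .nil) .nil) (.node 295 (.node 345 .nil .nil) .nil)) (.node 170 (.node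 262 (.node 352 .nil .nil) .nil) (.node 325 (.node 324 .nil .nil) .nil))) (.node 91 (.node 142 (.node 46 (.node 333 .nil .nil) .nil) (.node 198 (.node 230 .nil .nil) .nil)) (.node 133 (.node 191 (.node 217 .nil .nil) .nil) (.node 342 (.node 261 .nil .nil) .nil)))) (.node 56 (.node 81 (.node 30 (.node 226 (.node 278 .nil .nil) .nil) (.node 303 (.node 353 .nil .nil) .nil)) (.node 112 (.node 272 (.node 208 .nil .nil) .nil) (.node 293 (.node 222 .nil .nil) .nil))) (.node 110 (.node 23 (.node 252 (.node 103 .nil .nil) .nil) (.node 312 (.node 203 .nil .nil) .nil)) (.node 205 (.node 292 (.node 310 .nil .nil) .nil) (.node 139 .nil .nil)))))) (.node 4 (.node 24 (.node 39 (.node 36 (.node 119 (.node 211 (.node 93 .nil .nil) .nil) (.node 294 (.node 349 .nil .nil) .nil)) (.node 166 (.node 259 (.node 348 .nil .nil) .nil) (.node 323 (.node 361 .nil .nil) .nil))) (.node 45 (.node 18 (.node 97 (.node 271 .nil .nil) .nil) (.node 309 (.node 360 .nil .nil) .nil)) (.node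 29 (.node 281 (.node 121 .nil .nil) .nil) (.node 340 (.node 185 .nil .nil) .nil)))) (.node 53 (.node 78 (.node 127 (.node 223 (.node 285 .nil .nil) .nil) (.node 65 (.node 338 .nil .nil) .nil)) (.node 181 (.node 269 (.node 114 .nil .nil) .nil) (.node 85 (.node 331 .nil .nil) .nil))) (.node 92 (.node 76 (.node 250 (.node 108 .nil .nil) .nil) (.node 256 (.node 225 .nil .nil) .nil)) (.node 204 (.node 290 (.node 158 .nil .nil) .nil) (.node 88 (.node 359 .nil .nil) .nil))))) (.node 31 (.node 42 (.node 73 (.node 17 (.node 61 (.node 302 .nil .nil) .nil) (.node 182 (.node 344 .nil .nil) .nil)) (.node 174 (.node 264 (.node 276 .nil .nil) .nil) (.node 231 (.node 171 .nil .nil) .nil))) (.node 96 (.node 144 (.node 48 (.node 362 .nil .nil) .nil) (.node 238 (.node 148 .nil .nil) .nil)) (.node 74 (.node 173 (.node 135 .nil .nil) .nil) (.node 248 (.node 332 .nil .nil) .nil)))) (.node 60 (.node 22 (.node 82 (.node 229 (.node 216 .nil .nil) .nil) (.node 67 (.node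 239 .nil .nil) .nil)) (.node 188 (.node 105 (.node 337 .nil .nil) .nil) (.node 140 (.node 193 .nil .nil) .nil))) (.node 115 (.node 159 (.node 254 (.node 366 .nil .nil) .nil) (.node 318 (.node 263 .nil .nil) .nil)) (.node 128 (.node 59 (.node 308 .nil .nil) .nil) (.node 343 .nil .nil))))))) (.node 7 (.node 1 (.node 20 (.node 38 (.node 66 (.node 13 (.node 207 (.node 307 .nil .nil) .nil) (.node 277 (.node 218 .nil .nil) .nil)) (.node 25 (.node 258 (.node 106 .nil .nil) .nil) (.node 322 (.node 186 .nil .nil) .nil))) (.node 87 (.node 21 (.node 233 (.node 357 .nil .nil) .nil) (.node 215 (.node 374 .nil .nil) .nil)) (.node 58 (.node 280 (.node 157 .nil .nil) .nil) (.node 339 (.node 336 .nil .nil) .nil)))) (.node 52 (.node 77 (.node 34 (.node 221 (.node 234 .nil .nil) .nil) (.node 124 (.node 243 .nil .nil) .nil)) (.node 27 (.node 190 (.node 244 .nil .nil) .nil) (.node 155 (.node 301 .nil .nil) .nil))) (.node 104 (.node 152 (.node 249 (.node 194 .nil .nil)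 .nil) (.node 169 (.node 227 .nil .nil) .nil)) (.node 122 (.node 195 (.node 346 .nil .nil) .nil) (.node 150 (.node 329 .nil .nil) .nil))))) (.node 3 (.node 10 (.node 14 (.node 72 (.node 206 (.node 210 .nil .nil) .nil) (.node 297 (.node 375 .nil .nil) .nil)) (.node 172 (.node 138 (.node 175 .nil .nil) .nil) (.node 237 (.node 273 .nil .nil) .nil))) (.node 9 (.node 19 (.node 242 (.node 235 .nil .nil) .nil) (.node 202 (.node 316 .nil .nil) .nil)) (.node 71 (.node 286 (.node 330 .nil .nil) .nil) (.node 282 (.node 367 .nil .nil) .nil)))) (.node 57 (.node 84 (.node 50 (.node 228 (.node 167 .nil .nil) .nil) (.node 305 (.node 334 .nil .nil) .nil)) (.node 177 (.node 274 (.node 213 .nil .nil) .nil) (.node 335 (.node 267 .nil .nil) .nil))) (.node 113 (.node 28 (.node 253 (.node 236 .nil .nil) .nil) (.node 315 (.node 246 .nil .nil) .nil)) (.node 118 (.node 102 (.node 241 .nil .nil) .nil) (.node 232 .nil .nil)))))) (.node 16 (.node 8 (.node 43 (.node 68 (.node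 70 (.node 116 (.node 350 .nil .nil) .nil) (.node 176 (.node 351 .nil .nil) .nil)) (.node 168 (.node 260 (.node 369 .nil .nil) .nil) (.node 251 (.node 372 .nil .nil) .nil))) (.node 89 (.node 40 (.node 83 (.node 100 .nil .nil) .nil) (.node 162 (.node 376 .nil .nil) .nil)) (.node 196 (.node 283 (.node 320 .nil .nil) .nil) (.node 341 (.node 279 .nil .nil) .nil)))) (.node 41 (.node 80 (.node 126 (.node 134 (.node 268 .nil .nil) .nil) (.node 143 (.node 317 .nil .nil) .nil)) (.node 183 (.node 54 (.node 137 .nil .nil) .nil) (.node 165 (.node 192 .nil .nil) .nil))) (.node 107 (.node 154 (.node 111 (.node 296 .nil .nil) .nil) (.node 306 (.node 219 .nil .nil) .nil)) (.node 131 (.node 291 (.node 370 .nil .nil) .nil) (.node 326 .nil .nil))))) (.node 33 (.node 49 (.node 6 (.node 32 (.node 164 (.node 95 .nil .nil) .nil) (.node 129 (.node 153 .nil .nil) .nil)) (.node 109 (.node 145 (.node 365 .nil .nil) .nil) (.node 240 (.node 377 .nil .nil) .nil))) (.node 99 (.node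 147 (.node 245 (.node 364 .nil .nil) .nil) (.node 313 (.node 328 .nil .nil) .nil)) (.node 200 (.node 287 (.node 220 .nil .nil) .nil) (.node 289 (.node 368 .nil .nil) .nil)))) (.node 62 (.node 86 (.node 26 (.node 146 (.node 179 .nil .nil) .nil) (.node 199 (.node 373 .nil .nil) .nil)) (.node 189 (.node 55 (.node 371 .nil .nil) .nil) (.node 300 (.node 265 .nil .nil) .nil))) (.node 75 (.node 47 (.node 214 (.node 327 .nil .nil) .nil) (.node 319 (.node 160 .nil .nil) .nil)) (.node 117 (.node 98 (.node 136 .nil .nil) .nil) (.node 304 .nil .nil))))))))]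

/-- labels of the generators -/
def genA : List (Tr ℕ) := [(.node 1 (.node 1 (.node 1 (.node 1 (.node 1 (.node 1 (.node 1 (.node 0 (.node 1 .nil .nil) .nil) (.node 1 (.node 1 .nil .nil) .nil)) (.node 1 (.node 1 (.node 1 .nil .nil) .nil) (.node 1 (.node 1 .nil .nil) .nil))) (.node 1 (.node 1 (.node 1 (.node 1 .nil .nil) .nil) (.node 2 (.node 1 .nil .nil) .nil)) (.node 1 (.node 1 (.node 1 .nil .nil) .nil) (.node 0 (.node 0 .nil .nil) .nil)))) (.node 2 (.node 1 (.node 1 (.node 1 (.node 1 .nil .nil) .nil) (.node 1 (.node 2 .nil .nil) .nil)) (.node 2 (.node 1 (.node 1 .nil .nil) .nil) (.node 1 (.node 1 .nil .nil) .nil))) (.node 1 (.node 2 (.node 1 (.node 1 .nil .nil) .nil) (.node 1 (.node 1 .nil .nil) .nil)) (.node 1 (.node 1 (.node 1 .nil .nil) .nil) (.node 1 (.node 1 .nil .nil) .nil))))) (.node 1 (.node 1 (.node 1 (.node 1 (.node 1 (.node 1 .nil .nil) .nil) (.node 1 (.node 1 .nil .nil) .nil)) (.node 1 (.node 1 (.node 1 .nil .nil) .nil) (.node 1 (.node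 1 .nil .nil) .nil))) (.node 2 (.node 1 (.node 1 (.node 2 .nil .nil) .nil) (.node 1 (.node 1 .nil .nil) .nil)) (.node 1 (.node 1 (.node 1 .nil .nil) .nil) (.node 1 (.node 1 .nil .nil) .nil)))) (.node 1 (.node 1 (.node 1 (.node 1 (.node 1 .nil .nil) .nil) (.node 1 (.node 0 .nil .nil) .nil)) (.node 1 (.node 1 (.node 1 .nil .nil) .nil) (.node 0 (.node 1 .nil .nil) .nil))) (.node 1 (.node 2 (.node 1 (.node 2 .nil .nil) .nil) (.node 1 (.node 1 .nil .nil) .nil)) (.node 1 (.node 1 (.node 1 .nil .nil) .nil) (.node 1 .nil .nil)))))) (.node 1 (.node 1 (.node 1 (.node 1 (.node 1 (.node 1 (.node 1 .nil .nil) .nil) (.node 0 (.node 1 .nil .nil) .nil)) (.node 1 (.node 1 (.node 1 .nil .nil) .nil) (.node 1 (.node 1 .nil .nil) .nil))) (.node 0 (.node 1 (.node 1 (.node 1 .nil .nil) .nil) (.node 1 (.node 0 .nil .nil) .nil)) (.node 1 (.node 1 (.node 1 .nil .nil) .nil) (.node 1 (.node 0 .nil .nil) .nil)))) (.node 1 (.node 2 (.node 0 (.node 1 (.node 1 .nil .nil) .nil)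 (.node 1 (.node 1 .nil .nil) .nil)) (.node 1 (.node 1 (.node 1 .nil .nil) .nil) (.node 1 (.node 2 .nil .nil) .nil))) (.node 0 (.node 1 (.node 1 (.node 1 .nil .nil) .nil) (.node 1 (.node 1 .nil .nil) .nil)) (.node 1 (.node 0 (.node 1 .nil .nil) .nil) (.node 1 (.node 1 .nil .nil) .nil))))) (.node 1 (.node 1 (.node 0 (.node 1 (.node 1 (.node 1 .nil .nil) .nil) (.node 1 (.node 1 .nil .nil) .nil)) (.node 1 (.node 1 (.node 1 .nil .nil) .nil) (.node 1 (.node 1 .nil .nil) .nil))) (.node 1 (.node 1 (.node 2 (.node 1 .nil .nil) .nil) (.node 2 (.node 1 .nil .nil) .nil)) (.node 2 (.node 1 (.node 1 .nil .nil) .nil) (.node 1 (.node 1 .nil .nil) .nil)))) (.node 1 (.node 0 (.node 1 (.node 1 (.node 1 .nil .nil) .nil) (.node 1 (.node 1 .nil .nil) .nil)) (.node 1 (.node 1 (.node 1 .nil .nil) .nil) (.node 1 (.node 0 .nil .nil) .nil))) (.node 1 (.node 1 (.node 1 (.node 1 .nil .nil) .nil) (.node 1 (.node 1 .nil .nil) .nil)) (.node 2 (.node 1 (.node 1 .nil .nil) .nil)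 (.node 1 .nil .nil))))))) (.node 1 (.node 1 (.node 1 (.node 1 (.node 1 (.node 1 (.node 2 (.node 1 .nil .nil) .nil) (.node 1 (.node 1 .nil .nil) .nil)) (.node 1 (.node 1 (.node 1 .nil .nil) .nil) (.node 1 (.node 1 .nil .nil) .nil))) (.node 2 (.node 1 (.node 1 (.node 1 .nil .nil) .nil) (.node 1 (.node 1 .nil .nil) .nil)) (.node 1 (.node 1 (.node 1 .nil .nil) .nil) (.node 1 (.node 0 .nil .nil) .nil)))) (.node 1 (.node 1 (.node 1 (.node 1 (.node 1 .nil .nil) .nil) (.node 1 (.node 1 .nil .nil) .nil)) (.node 1 (.node 1 (.node 1 .nil .nil) .nil) (.node 1 (.node 2 .nil .nil) .nil))) (.node 1 (.node 1 (.node 1 (.node 1 .nil .nil) .nil) (.node 1 (.node 1 .nil .nil) .nil)) (.node 1 (.node 1 (.node 1 .nil .nil) .nil) (.node 1 (.node 1 .nil .nil) .nil))))) (.node 1 (.node 1 (.node 1 (.node 1 (.node 1 (.node 1 .nil .nil) .nil) (.node 1 (.node 1 .nil .nil) .nil)) (.node 1 (.node 0 (.node 1 .nil .nil) .nil) (.node 1 (.node 1 .nil .nil) .nil))) (.node 1 (.node 1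 (.node 1 (.node 2 .nil .nil) .nil) (.node 1 (.node 1 .nil .nil) .nil)) (.node 1 (.node 2 (.node 1 .nil .nil) .nil) (.node 1 (.node 1 .nil .nil) .nil)))) (.node 0 (.node 1 (.node 1 (.node 1 (.node 1 .nil .nil) .nil) (.node 1 (.node 1 .nil .nil) .nil)) (.node 1 (.node 1 (.node 0 .nil .nil) .nil) (.node 1 (.node 1 .nil .nil) .nil))) (.node 1 (.node 0 (.node 1 (.node 1 .nil .nil) .nil) (.node 1 (.node 1 .nil .nil) .nil)) (.node 1 (.node 1 (.node 1 .nil .nil) .nil) (.node 1 .nil .nil)))))) (.node 1 (.node 1 (.node 1 (.node 1 (.node 1 (.node 1 (.node 1 .nil .nil) .nil) (.node 1 (.node 1 .nil .nil) .nil)) (.node 1 (.node 1 (.node 0 .nil .nil) .nil) (.node 1 (.node 2 .nil .nil) .nil))) (.node 1 (.node 1 (.node 1 (.node 1 .nil .nil) .nil) (.node 1 (.node 1 .nil .nil) .nil)) (.node 1 (.node 2 (.node 1 .nil .nil) .nil) (.node 1 (.node 1 .nil .nil) .nil)))) (.node 2 (.node 1 (.node 0 (.node 0 (.node 1 .nil .nil) .nil) (.node 1 (.node 1 .nil .nil) .nil)) (.node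 1 (.node 1 (.node 1 .nil .nil) .nil) (.node 1 (.node 1 .nil .nil) .nil))) (.node 1 (.node 1 (.node 1 (.node 1 .nil .nil) .nil) (.node 1 (.node 1 .nil .nil) .nil)) (.node 1 (.node 1 (.node 1 .nil .nil) .nil) (.node 1 .nil .nil))))) (.node 1 (.node 0 (.node 1 (.node 1 (.node 0 (.node 1 .nil .nil) .nil) (.node 1 (.node 1 .nil .nil) .nil)) (.node 1 (.node 1 (.node 0 .nil .nil) .nil) (.node 1 (.node 1 .nil .nil) .nil))) (.node 1 (.node 1 (.node 1 (.node 1 .nil .nil) .nil) (.node 1 (.node 1 .nil .nil) .nil)) (.node 1 (.node 1 (.node 1 .nil .nil) .nil) (.node 1 (.node 2 .nil .nil) .nil)))) (.node 1 (.node 1 (.node 2 (.node 1 (.node 1 .nil .nil) .nil) (.node 1 (.node 1 .nil .nil) .nil)) (.node 1 (.node 1 (.node 1 .nil .nil) .nil) (.node 1 (.node 1 .nil .nil) .nil))) (.node 1 (.node 1 (.node 1 (.node 2 .nil .nil) .nil) (.node 1 (.node 1 .nil .nil) .nil)) (.node 1 (.node 1 (.node 1 .nil .nil) .nil) (.node 1 .nil .nil)))))))),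
    (.node 2 (.node 0 (.node 2 (.node 0 (.node 1 (.node 2 (.node 0 (.node 0 (.node 0 .nil .nil) .nil) (.node 2 (.node 0 .nil .nil) .nil)) (.node 1 (.node 1 (.node 0 .nil .nil) .nil) (.node 0 (.node 2 .nil .nil) .nil))) (.node 2 (.node 0 (.node 1 (.node 2 .nil .nil) .nil) (.node 0 (.node 0 .nil .nil) .nil)) (.node 2 (.node 1 (.node 2 .nil .nil) .nil) (.node 2 (.node 1 .nil .nil) .nil)))) (.node 0 (.node 1 (.node 0 (.node 0 (.node 2 .nil .nil) .nil) (.node 0 (.node 2 .nil .nil) .nil)) (.node 2 (.node 0 (.node 0 .nil .nil) .nil) (.node 0 (.node 2 .nil .nil) .nil))) (.node 1 (.node 2 (.node 0 (.node 2 .nil .nil) .nil) (.node 2 (.node 2 .nil .nil) .nil)) (.node 1 (.node 1 (.node 0 .nil .nil) .nil) (.node 2 (.node 0 .nil .nil) .nil))))) (.node 1 (.node 0 (.node 0 (.node 0 (.node 0 (.node 0 .nil .nil) .nil) (.node 2 (.node 1 .nil .nil) .nil)) (.node 1 (.node 2 (.node 1 .nil .nil) .nil) (.node 0 (.node 2 .nil .nil) .nil))) (.node 2 (.node 1 (.node 0 (.node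 0 .nil .nil) .nil) (.node 2 (.node 2 .nil .nil) .nil)) (.node 2 (.node 1 (.node 2 .nil .nil) .nil) (.node 2 (.node 0 .nil .nil) .nil)))) (.node 0 (.node 1 (.node 0 (.node 1 (.node 1 .nil .nil) .nil) (.node 2 (.node 2 .nil .nil) .nil)) (.node 2 (.node 0 (.node 0 .nil .nil) .nil) (.node 0 (.node 0 .nil .nil) .nil))) (.node 0 (.node 2 (.node 1 (.node 1 .nil .nil) .nil) (.node 1 (.node 2 .nil .nil) .nil)) (.node 1 (.node 0 (.node 0 .nil .nil) .nil) (.node 0 .nil .nil)))))) (.node 2 (.node 2 (.node 0 (.node 1 (.node 0 (.node 2 (.node 0 .nil .nil) .nil) (.node 0 (.node 1 .nil .nil) .nil)) (.node 2 (.node 2 (.node 1 .nil .nil) .nil) (.node 0 (.node 0 .nil .nil) .nil))) (.node 0 (.node 1 (.node 1 (.node 1 .nil .nil) .nil) (.node 2 (.node 0 .nil .nil) .nil)) (.node 1 (.node 2 (.node 0 .nil .nil) .nil) (.node 2 (.node 0 .nil .nil) .nil)))) (.node 1 (.node 2 (.node 0 (.node 0 (.node 1 .nil .nil) .nil) (.node 0 (.node 2 .nil .nil) .nil)) (.node 2 (.node 0 (.node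 2 .nil .nil) .nil) (.node 2 (.node 1 .nil .nil) .nil))) (.node 0 (.node 2 (.node 2 (.node 1 .nil .nil) .nil) (.node 2 (.node 2 .nil .nil) .nil)) (.node 2 (.node 2 (.node 2 .nil .nil) .nil) (.node 1 (.node 1 .nil .nil) .nil))))) (.node 2 (.node 2 (.node 1 (.node 0 (.node 0 (.node 1 .nil .nil) .nil) (.node 1 (.node 1 .nil .nil) .nil)) (.node 2 (.node 1 (.node 1 .nil .nil) .nil) (.node 2 (.node 2 .nil .nil) .nil))) (.node 1 (.node 0 (.node 1 (.node 0 .nil .nil) .nil) (.node 1 (.node 2 .nil .nil) .nil)) (.node 1 (.node 0 (.node 1 .nil .nil) .nil) (.node 2 (.node 1 .nil .nil) .nil)))) (.node 0 (.node 0 (.node 0 (.node 1 (.node 1 .nil .nil) .nil) (.node 0 (.node 1 .nil .nil) .nil)) (.node 0 (.node 1 (.node 2 .nil .nil) .nil) (.node 0 (.node 1 .nil .nil) .nil))) (.node 1 (.node 1 (.node 2 (.node 1 .nil .nil) .nil) (.node 1 (.node 1 .nil .nil) .nil)) (.node 2 (.node 1 (.node 1 .nil .nil) .nil) (.node 0 .nil .nil))))))) (.node 1 (.node 1 (.node 1 (.node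 0 (.node 2 (.node 1 (.node 0 (.node 0 .nil .nil) .nil) (.node 2 (.node 0 .nil .nil) .nil)) (.node 1 (.node 0 (.node 2 .nil .nil) .nil) (.node 1 (.node 0 .nil .nil) .nil))) (.node 1 (.node 2 (.node 1 (.node 1 .nil .nil) .nil) (.node 1 (.node 2 .nil .nil) .nil)) (.node 0 (.node 2 (.node 2 .nil .nil) .nil) (.node 1 (.node 1 .nil .nil) .nil)))) (.node 2 (.node 0 (.node 0 (.node 2 (.node 2 .nil .nil) .nil) (.node 0 (.node 1 .nil .nil) .nil)) (.node 1 (.node 1 (.node 1 .nil .nil) .nil) (.node 1 (.node 1 .nil .nil) .nil))) (.node 2 (.node 2 (.node 1 (.node 2 .nil .nil) .nil) (.node 2 (.node 2 .nil .nil) .nil)) (.node 1 (.node 1 (.node 1 .nil .nil) .nil) (.node 1 (.node 0 .nil .nil) .nil))))) (.node 1 (.node 0 (.node 0 (.node 2 (.node 2 (.node 1 .nil .nil) .nil) (.node 1 (.node 2 .nil .nil) .nil)) (.node 1 (.node 0 (.node 2 .nil .nil) .nil) (.node 2 (.node 0 .nil .nil) .nil))) (.node 0 (.node 2 (.node 0 (.node 2 .nil .nil) .nil) (.node 2 (.node 2 .nil .nil)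 .nil)) (.node 1 (.node 1 (.node 1 .nil .nil) .nil) (.node 0 (.node 0 .nil .nil) .nil)))) (.node 1 (.node 1 (.node 0 (.node 1 (.node 0 .nil .nil) .nil) (.node 0 (.node 1 .nil .nil) .nil)) (.node 1 (.node 2 (.node 0 .nil .nil) .nil) (.node 1 (.node 1 .nil .nil) .nil))) (.node 2 (.node 1 (.node 2 (.node 1 .nil .nil) .nil) (.node 2 (.node 1 .nil .nil) .nil)) (.node 0 (.node 0 (.node 2 .nil .nil) .nil) (.node 2 .nil .nil)))))) (.node 1 (.node 1 (.node 0 (.node 2 (.node 2 (.node 2 (.node 1 .nil .nil) .nil) (.node 1 (.node 2 .nil .nil) .nil)) (.node 0 (.node 1 (.node 2 .nil .nil) .nil) (.node 0 (.node 2 .nil .nil) .nil))) (.node 2 (.node 0 (.node 2 (.node 0 .nil .nil) .nil) (.node 2 (.node 2 .nil .nil) .nil)) (.node 0 (.node 2 (.node 1 .nil .nil) .nil) (.node 1 (.node 0 .nil .nil) .nil)))) (.node 0 (.node 1 (.node 2 (.node 2 (.node 2 .nil .nil) .nil) (.node 0 (.node 0 .nil .nil) .nil)) (.node 0 (.node 1 (.node 1 .nil .nil) .nil) (.node 1 (.node 1 .nil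 .nil) .nil))) (.node 1 (.node 0 (.node 0 (.node 0 .nil .nil) .nil) (.node 2 (.node 1 .nil .nil) .nil)) (.node 1 (.node 2 (.node 0 .nil .nil) .nil) (.node 0 .nil .nil))))) (.node 0 (.node 2 (.node 2 (.node 2 (.node 0 (.node 0 .nil .nil) .nil) (.node 2 (.node 1 .nil .nil) .nil)) (.node 2 (.node 0 (.node 0 .nil .nil) .nil) (.node 2 (.node 0 .nil .nil) .nil))) (.node 0 (.node 2 (.node 1 (.node 0 .nil .nil) .nil) (.node 0 (.node 0 .nil .nil) .nil)) (.node 1 (.node 2 (.node 1 .nil .nil) .nil) (.node 1 (.node 0 .nil .nil) .nil)))) (.node 2 (.node 1 (.node 2 (.node 1 (.node 2 .nil .nil) .nil) (.node 1 (.node 0 .nil .nil) .nil)) (.node 1 (.node 0 (.node 2 .nil .nil) .nil) (.node 2 (.node 0 .nil .nil) .nil))) (.node 2 (.node 1 (.node 0 (.node 2 .nil .nil) .nil) (.node 1 (.node 2 .nil .nil) .nil)) (.node 0 (.node 2 (.node 2 .nil .nil) .nil) (.node 1 .nil .nil)))))))),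
    (.node 0 (.node 0 (.node 0 (.node 0 (.node 0 (.node 1 (.node 1 (.node 1 (.node 2 .nil .nil) .nil) (.node 0 (.node 1 .nil .nil) .nil)) (.node 0 (.node 0 (.node 1 .nil .nil) .nil) (.node 2 (.node 2 .nil .nil) .nil))) (.node 1 (.node 1 (.node 0 (.node 0 .nil .nil) .nil) (.node 2 (.node 0 .nil .nil) .nil)) (.node 0 (.node 0 (.node 2 .nil .nil) .nil) (.node 0 (.node 1 .nil .nil) .nil)))) (.node 0 (.node 2 (.node 0 (.node 1 (.node 2 .nil .nil) .nil) (.node 2 (.node 2 .nil .nil) .nil)) (.node 2 (.node 2 (.node 2 .nil .nil) .nil) (.node 0 (.node 0 .nil .nil) .nil))) (.node 0 (.node 2 (.node 0 (.node 0 .nil .nil) .nil) (.node 2 (.node 2 .nil .nil) .nil)) (.node 0 (.node 0 (.node 0 .nil .nil) .nil) (.node 0 (.node 0 .nil .nil) .nil))))) (.node 0 (.node 0 (.node 1 (.node 0 (.node 1 (.node 0 .nil .nil) .nil) (.node 0 (.node 0 .nil .nil) .nil)) (.node 0 (.node 0 (.node 1 .nil .nil) .nil) (.node 0 (.node 1 .nil .nil) .nil))) (.node 2 (.node 0 (.node 0 (.node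 1 .nil .nil) .nil) (.node 1 (.node 0 .nil .nil) .nil)) (.node 1 (.node 0 (.node 2 .nil .nil) .nil) (.node 1 (.node 2 .nil .nil) .nil)))) (.node 0 (.node 2 (.node 2 (.node 0 (.node 0 .nil .nil) .nil) (.node 2 (.node 2 .nil .nil) .nil)) (.node 0 (.node 0 (.node 1 .nil .nil) .nil) (.node 0 (.node 0 .nil .nil) .nil))) (.node 0 (.node 2 (.node 1 (.node 0 .nil .nil) .nil) (.node 0 (.node 0 .nil .nil) .nil)) (.node 0 (.node 1 (.node 0 .nil .nil) .nil) (.node 0 .nil .nil)))))) (.node 0 (.node 2 (.node 0 (.node 1 (.node 0 (.node 0 (.node 2 .nil .nil) .nil) (.node 1 (.node 2 .nil .nil) .nil)) (.node 0 (.node 0 (.node 0 .nil .nil) .nil) (.node 0 (.node 0 .nil .nil) .nil))) (.node 1 (.node 0 (.node 0 (.node 0 .nil .nil) .nil) (.node 0 (.node 2 .nil .nil) .nil)) (.node 2 (.node 0 (.node 1 .nil .nil) .nil) (.node 0 (.node 1 .nil .nil) .nil)))) (.node 0 (.node 0 (.node 1 (.node 0 (.node 2 .nil .nil) .nil) (.node 1 (.node 2 .nil .nil) .nil)) (.node 2 (.node 0 (.node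 2 .nil .nil) .nil) (.node 0 (.node 2 .nil .nil) .nil))) (.node 1 (.node 0 (.node 0 (.node 0 .nil .nil) .nil) (.node 0 (.node 0 .nil .nil) .nil)) (.node 0 (.node 1 (.node 0 .nil .nil) .nil) (.node 0 (.node 0 .nil .nil) .nil))))) (.node 0 (.node 2 (.node 1 (.node 0 (.node 1 (.node 0 .nil .nil) .nil) (.node 0 (.node 0 .nil .nil) .nil)) (.node 0 (.node 2 (.node 0 .nil .nil) .nil) (.node 0 (.node 0 .nil .nil) .nil))) (.node 0 (.node 2 (.node 2 (.node 0 .nil .nil) .nil) (.node 2 (.node 1 .nil .nil) .nil)) (.node 1 (.node 0 (.node 1 .nil .nil) .nil) (.node 2 (.node 0 .nil .nil) .nil)))) (.node 0 (.node 1 (.node 2 (.node 0 (.node 0 .nil .nil) .nil) (.node 2 (.node 0 .nil .nil) .nil)) (.node 0 (.node 0 (.node 0 .nil .nil) .nil) (.node 0 (.node 0 .nil .nil) .nil))) (.node 0 (.node 0 (.node 0 (.node 0 .nil .nil) .nil) (.node 0 (.node 0 .nil .nil) .nil)) (.node 2 (.node 0 (.node 0 .nil .nil) .nil) (.node 0 .nil .nil))))))) (.node 0 (.node 0 (.node 0 (.node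 0 (.node 0 (.node 1 (.node 2 (.node 0 .nil .nil) .nil) (.node 0 (.node 0 .nil .nil) .nil)) (.node 0 (.node 0 (.node 1 .nil .nil) .nil) (.node 2 (.node 0 .nil .nil) .nil))) (.node 2 (.node 0 (.node 0 (.node 0 .nil .nil) .nil) (.node 0 (.node 0 .nil .nil) .nil)) (.node 0 (.node 0 (.node 1 .nil .nil) .nil) (.node 0 (.node 1 .nil .nil) .nil)))) (.node 2 (.node 1 (.node 2 (.node 0 (.node 0 .nil .nil) .nil) (.node 2 (.node 0 .nil .nil) .nil)) (.node 0 (.node 0 (.node 0 .nil .nil) .nil) (.node 0 (.node 2 .nil .nil) .nil))) (.node 0 (.node 2 (.node 2 (.node 0 .nil .nil) .nil) (.node 0 (.node 2 .nil .nil) .nil)) (.node 0 (.node 0 (.node 0 .nil .nil) .nil) (.node 0 (.node 0 .nil .nil) .nil))))) (.node 0 (.node 0 (.node 1 (.node 0 (.node 1 (.node 0 .nil .nil) .nil) (.node 0 (.node 1 .nil .nil) .nil)) (.node 0 (.node 1 (.node 0 .nil .nil) .nil) (.node 0 (.node 0 .nil .nil) .nil))) (.node 0 (.node 0 (.node 1 (.node 1 .nil .nil) .nil) (.node 2 (.node 0 .nil .nil)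 .nil)) (.node 1 (.node 2 (.node 0 .nil .nil) .nil) (.node 1 (.node 0 .nil .nil) .nil)))) (.node 0 (.node 0 (.node 1 (.node 0 (.node 0 .nil .nil) .nil) (.node 0 (.node 0 .nil .nil) .nil)) (.node 1 (.node 0 (.node 1 .nil .nil) .nil) (.node 0 (.node 0 .nil .nil) .nil))) (.node 2 (.node 1 (.node 2 (.node 0 .nil .nil) .nil) (.node 0 (.node 1 .nil .nil) .nil)) (.node 0 (.node 0 (.node 0 .nil .nil) .nil) (.node 1 .nil .nil)))))) (.node 0 (.node 0 (.node 2 (.node 0 (.node 2 (.node 2 (.node 0 .nil .nil) .nil) (.node 0 (.node 0 .nil .nil) .nil)) (.node 0 (.node 0 (.node 0 .nil .nil) .nil) (.node 0 (.node 0 .nil .nil) .nil))) (.node 1 (.node 0 (.node 0 (.node 0 .nil .nil) .nil) (.node 0 (.node 2 .nil .nil) .nil)) (.node 0 (.node 2 (.node 2 .nil .nil) .nil) (.node 0 (.node 1 .nil .nil) .nil)))) (.node 2 (.node 1 (.node 2 (.node 1 (.node 0 .nil .nil) .nil) (.node 0 (.node 0 .nil .nil) .nil)) (.node 0 (.node 0 (.node 0 .nil .nil) .nil) (.node 0 (.node 0 .nil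 .nil) .nil))) (.node 0 (.node 1 (.node 0 (.node 1 .nil .nil) .nil) (.node 0 (.node 1 .nil .nil) .nil)) (.node 0 (.node 1 (.node 2 .nil .nil) .nil) (.node 0 .nil .nil))))) (.node 0 (.node 0 (.node 2 (.node 0 (.node 1 (.node 2 .nil .nil) .nil) (.node 2 (.node 0 .nil .nil) .nil)) (.node 0 (.node 0 (.node 1 .nil .nil) .nil) (.node 0 (.node 0 .nil .nil) .nil))) (.node 1 (.node 0 (.node 0 (.node 0 .nil .nil) .nil) (.node 1 (.node 1 .nil .nil) .nil)) (.node 0 (.node 0 (.node 0 .nil .nil) .nil) (.node 1 (.node 0 .nil .nil) .nil)))) (.node 0 (.node 0 (.node 2 (.node 1 (.node 0 .nil .nil) .nil) (.node 0 (.node 0 .nil .nil) .nil)) (.node 0 (.node 0 (.node 0 .nil .nil) .nil) (.node 0 (.node 1 .nil .nil) .nil))) (.node 2 (.node 0 (.node 0 (.node 0 .nil .nil) .nil) (.node 0 (.node 0 .nil .nil) .nil)) (.node 0 (.node 0 (.node 0 .nil .nil) .nil) (.node 0 .nil .nil)))))))),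
    (.node 2 (.node 1 (.node 1 (.node 1 (.node 1 (.node 0 (.node 2 (.node 0 (.node 0 .nil .nil) .nil) (.node 1 (.node 2 .nil .nil) .nil)) (.node 1 (.node 1 (.node 2 .nil .nil) .nil) (.node 2 (.node 0 .nil .nil) .nil))) (.node 2 (.node 0 (.node 1 (.node 0 .nil .nil) .nil) (.node 1 (.node 2 .nil .nil) .nil)) (.node 0 (.node 0 (.node 2 .nil .nil) .nil) (.node 0 (.node 1 .nil .nil) .nil)))) (.node 1 (.node 0 (.node 1 (.node 2 (.node 0 .nil .nil) .nil) (.node 1 (.node 0 .nil .nil) .nil)) (.node 0 (.node 2 (.node 2 .nil .nil) .nil) (.node 2 (.node 0 .nil .nil) .nil))) (.node 1 (.node 0 (.node 2 (.node 1 .nil .nil) .nil) (.node 2 (.node 0 .nil .nil) .nil)) (.node 0 (.node 1 (.node 2 .nil .nil) .nil) (.node 1 (.node 1 .nil .nil) .nil))))) (.node 2 (.node 2 (.node 0 (.node 1 (.node 0 (.node 0 .nil .nil) .nil) (.node 0 (.node 1 .nil .nil) .nil)) (.node 2 (.node 0 (.node 2 .nil .nil) .nil) (.node 2 (.node 0 .nil .nil) .nil))) (.node 0 (.node 1 (.node 2 (.node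 2 .nil .nil) .nil) (.node 2 (.node 1 .nil .nil) .nil)) (.node 0 (.node 0 (.node 0 .nil .nil) .nil) (.node 0 (.node 2 .nil .nil) .nil)))) (.node 1 (.node 2 (.node 2 (.node 0 (.node 0 .nil .nil) .nil) (.node 0 (.node 0 .nil .nil) .nil)) (.node 0 (.node 2 (.node 0 .nil .nil) .nil) (.node 2 (.node 1 .nil .nil) .nil))) (.node 0 (.node 2 (.node 0 (.node 1 .nil .nil) .nil) (.node 2 (.node 1 .nil .nil) .nil)) (.node 0 (.node 2 (.node 2 .nil .nil) .nil) (.node 1 .nil .nil)))))) (.node 2 (.node 2 (.node 1 (.node 0 (.node 1 (.node 1 (.node 0 .nil .nil) .nil) (.node 0 (.node 2 .nil .nil) .nil)) (.node 0 (.node 1 (.node 1 .nil .nil) .nil) (.node 2 (.node 2 .nil .nil) .nil))) (.node 0 (.node 0 (.node 1 (.node 1 .nil .nil) .nil) (.node 1 (.node 2 .nil .nil) .nil)) (.node 2 (.node 2 (.node 2 .nil .nil) .nil) (.node 0 (.node 0 .nil .nil) .nil)))) (.node 2 (.node 1 (.node 0 (.node 0 (.node 2 .nil .nil) .nil) (.node 2 (.node 0 .nil .nil) .nil)) (.node 0 (.node 2 (.node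 0 .nil .nil) .nil) (.node 0 (.node 1 .nil .nil) .nil))) (.node 0 (.node 0 (.node 0 (.node 1 .nil .nil) .nil) (.node 2 (.node 0 .nil .nil) .nil)) (.node 1 (.node 0 (.node 1 .nil .nil) .nil) (.node 1 (.node 1 .nil .nil) .nil))))) (.node 1 (.node 2 (.node 0 (.node 2 (.node 2 (.node 1 .nil .nil) .nil) (.node 1 (.node 1 .nil .nil) .nil)) (.node 0 (.node 0 (.node 1 .nil .nil) .nil) (.node 0 (.node 0 .nil .nil) .nil))) (.node 0 (.node 2 (.node 2 (.node 2 .nil .nil) .nil) (.node 2 (.node 0 .nil .nil) .nil)) (.node 0 (.node 2 (.node 0 .nil .nil) .nil) (.node 2 (.node 2 .nil .nil) .nil)))) (.node 1 (.node 0 (.node 2 (.node 1 (.node 1 .nil .nil) .nil) (.node 2 (.node 1 .nil .nil) .nil)) (.node 2 (.node 1 (.node 0 .nil .nil) .nil) (.node 2 (.node 0 .nil .nil) .nil))) (.node 1 (.node 2 (.node 2 (.node 1 .nil .nil) .nil) (.node 1 (.node 1 .nil .nil) .nil)) (.node 0 (.node 1 (.node 0 .nil .nil) .nil) (.node 1 .nil .nil))))))) (.node 0 (.node 0 (.node 1 (.node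 0 (.node 1 (.node 2 (.node 2 (.node 1 .nil .nil) .nil) (.node 0 (.node 1 .nil .nil) .nil)) (.node 1 (.node 2 (.node 0 .nil .nil) .nil) (.node 2 (.node 1 .nil .nil) .nil))) (.node 1 (.node 1 (.node 1 (.node 1 .nil .nil) .nil) (.node 1 (.node 0 .nil .nil) .nil)) (.node 2 (.node 1 (.node 0 .nil .nil) .nil) (.node 2 (.node 1 .nil .nil) .nil)))) (.node 0 (.node 1 (.node 2 (.node 2 (.node 2 .nil .nil) .nil) (.node 0 (.node 1 .nil .nil) .nil)) (.node 2 (.node 1 (.node 1 .nil .nil) .nil) (.node 1 (.node 1 .nil .nil) .nil))) (.node 0 (.node 0 (.node 2 (.node 2 .nil .nil) .nil) (.node 0 (.node 0 .nil .nil) .nil)) (.node 2 (.node 1 (.node 1 .nil .nil) .nil) (.node 1 (.node 1 .nil .nil) .nil))))) (.node 0 (.node 2 (.node 2 (.node 0 (.node 2 (.node 0 .nil .nil) .nil) (.node 1 (.node 2 .nil .nil) .nil)) (.node 1 (.node 0 (.node 1 .nil .nil) .nil) (.node 0 (.node 2 .nil .nil) .nil))) (.node 1 (.node 1 (.node 2 (.node 0 .nil .nil) .nil) (.node 0 (.node 2 .nil .nil)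 .nil)) (.node 0 (.node 2 (.node 1 .nil .nil) .nil) (.node 0 (.node 2 .nil .nil) .nil)))) (.node 0 (.node 0 (.node 1 (.node 1 (.node 0 .nil .nil) .nil) (.node 0 (.node 0 .nil .nil) .nil)) (.node 0 (.node 0 (.node 1 .nil .nil) .nil) (.node 1 (.node 2 .nil .nil) .nil))) (.node 0 (.node 0 (.node 2 (.node 0 .nil .nil) .nil) (.node 0 (.node 0 .nil .nil) .nil)) (.node 2 (.node 1 (.node 1 .nil .nil) .nil) (.node 2 .nil .nil)))))) (.node 1 (.node 0 (.node 1 (.node 1 (.node 0 (.node 2 (.node 1 .nil .nil) .nil) (.node 0 (.node 1 .nil .nil) .nil)) (.node 2 (.node 1 (.node 0 .nil .nil) .nil) (.node 2 (.node 0 .nil .nil) .nil))) (.node 2 (.node 0 (.node 2 (.node 2 .nil .nil) .nil) (.node 2 (.node 2 .nil .nil) .nil)) (.node 2 (.node 2 (.node 2 .nil .nil) .nil) (.node 1 (.node 2 .nil .nil) .nil)))) (.node 2 (.node 0 (.node 1 (.node 0 (.node 1 .nil .nil) .nil) (.node 2 (.node 2 .nil .nil) .nil)) (.node 2 (.node 1 (.node 1 .nil .nil) .nil) (.node 1 (.node 1 .nil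 .nil) .nil))) (.node 1 (.node 2 (.node 1 (.node 2 .nil .nil) .nil) (.node 0 (.node 0 .nil .nil) .nil)) (.node 1 (.node 0 (.node 0 .nil .nil) .nil) (.node 2 .nil .nil))))) (.node 1 (.node 0 (.node 2 (.node 2 (.node 0 (.node 2 .nil .nil) .nil) (.node 0 (.node 1 .nil .nil) .nil)) (.node 0 (.node 2 (.node 0 .nil .nil) .nil) (.node 0 (.node 2 .nil .nil) .nil))) (.node 0 (.node 0 (.node 0 (.node 1 .nil .nil) .nil) (.node 2 (.node 2 .nil .nil) .nil)) (.node 1 (.node 0 (.node 1 .nil .nil) .nil) (.node 2 (.node 2 .nil .nil) .nil)))) (.node 1 (.node 1 (.node 0 (.node 0 (.node 2 .nil .nil) .nil) (.node 0 (.node 1 .nil .nil) .nil)) (.node 2 (.node 2 (.node 0 .nil .nil) .nil) (.node 0 (.node 0 .nil .nil) .nil))) (.node 0 (.node 1 (.node 0 (.node 1 .nil .nil) .nil) (.node 0 (.node 0 .nil .nil) .nil)) (.node 2 (.node 0 (.node 0 .nil .nil) .nil) (.node 1 .nil .nil))))))))]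

/-- words for the root elements -/
def rootW : List (List ℕ) := [[0, 2, 2, 0, 1, 3, 3, 1, 2, 1, 1, 3, 3, 3, 3, 1, 1, 0, 0, 2, 2, 2, 2, 0, 0],
    [1, 3, 3, 1, 2, 1, 1, 3, 3, 3, 3, 1, 1],
    [1, 3, 3, 1, 0, 2, 2, 0, 3, 0, 0, 2, 2, 2, 2, 0, 0, 1, 1, 3, 3, 3, 3, 1, 1],
    [0, 2, 2, 0, 3, 0, 0, 2, 2, 2, 2, 0, 0],
    [3],
    [2],
    [0],
    [1],
    [0, 2, 2, 0, 1, 0, 0, 2, 2, 2, 2, 0, 0],
    [1, 3, 3, 1, 0, 2, 2, 0, 1, 0, 0, 2, 2, 2, 2, 0, 0, 1, 1, 3, 3, 3, 3, 1, 1],
    [1, 3, 3, 1, 0, 1, 1, 3, 3, 3, 3, 1, 1],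
    [0, 2, 2, 0, 1, 3, 3, 1, 0, 1, 1, 3, 3, 3, 3, 1, 1, 0, 0, 2, 2, 2, 2, 0, 0]]

/-- a commutator pair -/
def commU : List ℕ := [0, 3]

/-- a commutator pair -/
def commV : List ℕ := [2]

/-- the inverse of the first word -/
def commU' : List ℕ := [3, 3, 0, 0]

/-- the inverse of the second word -/
def commV' : List ℕ := [2, 2]

end CfsgLib.KnownB.G2Mult
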