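import Cfsg.Agent.Lib.KnownB.G2Mult.Cover
import Cfsg.Agent.Lib.KnownB.G2Mult.CertData
import Cfsg.Agent.S1059

/-! Lifts of the generators, the kernel, and the order of the cover. -/

set_option autoImplicit false
set_option maxRecDepth 100000
set_option synthInstance.maxSize 4000
set_option maxHeartbeats 4000000
set_option Elab.async false

namespace CfsgLib.KnownB.G2Mult

open Matrix CfsgLib.Chev CfsgLib.KnownB.Mult
open scoped commutatorElement

/-- the root numbers of the generators -/
def genR : List (Fin 12) := [6, 7, 5, 4]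

theorem genR_ok : ((List.range 4).all fun k =>
    eqM (genC.getD k oneC).m (rootR.getD (genR.getD k 0).val oneM)) = true := by decide +kernel

theorem edge_ok (k : ℕ) (hk : k < 4) : edgeOK (genQ.getD k .nil) (genA.getD k .nil) = true := by
  interval_cases k
  · exact edge0_ok
  · exact edge1_ok
  · exact edge2_ok
  · exact edge3_ok

theorem exists_gen (k : ℕ) (hk : k < 4) : ∃ e : Cov, Rep e (genC.getD k oneC) := by
  have hg := List.all_eq_true.1 genR_ok k (List.mem_range.2 hk)
  have hp := List.all_eq_true.1 genPts_ok k (List.mem_range.2 hk)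
  have he := edge_ok k hk
  generalize genC.getD k oneC = x at hg hp ⊢
  generalize genQ.getD k .nil = Q at hp he
  generalize genA.getD k .nil = A at hp he
  simp only [ptsGenOK, Bool.and_eq_true, List.all_eq_true, List.mem_range, Nat.blt_eq, Bool.or_eq_true,
    Nat.beq_eq, eqV_iff, decV_app, decV_negV] at hp
  obtain ⟨ha0, hpt⟩ := hp
  let g : G := xg (genR.getD k 0)
  have hm : rho g = decM x.m := (rho_xg _).trans (eqM_iff.1 hg).symm
  let q : Fin 378 → Fin 378 := fun i => ⟨Q.get 0 i, (hpt i i.2).1⟩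
  let f : Pts → Pts := fun p => (q p.1, ((A.get 0 p.1 : ℕ) : ZMod 3) + p.2)
  have hf : Function.Injective f := by
    rintro ⟨i, s⟩ ⟨j, t⟩ e
    have e1 : q i = q j := congrArg Prod.fst e
    have hij : i = j := by
      have hi := (hpt i i.2).2
      have hj := (hpt j j.2).2
      rw [← hm] at hi hj
      have e1' : Q.get 0 (i : ℕ) = Q.get 0 (j : ℕ) := congrArg Fin.val e1
      rw [e1'] at hi
      have hinv : ∀ u w, rho g *ᵥ u = rho g *ᵥ w → u = w := fun u w h => by
        have h' := congrArg (rho g⁻¹ *ᵥ ·) h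
        simpa only [mulVec_mulVec, ← rho_mul, inv_mul_cancel, rho_one, one_mulVec] using h'
      have hpm : decV (pt i) = decV (pt j) ∨ decV (pt i) = -decV (pt j) := by
        rcases hi with hi | hi <;> rcases hj with hj | hj
        · exact Or.inl (hinv _ _ (hi.trans hj.symm))
        · exact Or.inr (hinv _ _ (by rw [mulVec_neg, hi, hj, neg_neg]))
        · exact Or.inr (hinv _ _ (by rw [mulVec_neg, hi, hj]))
        · exact Or.inl (hinv _ _ (hi.trans hj.symm))
      refine Fin.ext ?_
      rcases hpm with h | h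
      · rw [← (idx_red i).1, ← encV_decV, h, encV_decV, (idx_red j).1]
      · rw [← (idx_red i).1, ← encV_decV, h, ← decV_negV, encV_decV, red7_negV, (idx_red j).2]
    subst hij
    exact Prod.ext rfl (add_left_cancel (congrArg Prod.snd e))
  let π : Equiv.Perm Pts := Equiv.ofBijective f (Finite.injective_iff_bijective.1 hf)
  have hq : ∀ i, qE ((g, π) : Amb) i = q i := fun i => rfl
  have ha : ∀ i, aE ((g, π) : Amb) i = ((A.get 0 (i : ℕ) : ℕ) : ZMod 3) := fun i => add_zero _
  have hgood : Good ((g, π) : Amb) := by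
    refine ⟨fun i t => ?_, fun i => ?_, fun i j h => ?_⟩
    · show f (i, t) = _
      rw [hq, ha]
    · rw [hq, hm]
      exact (hpt i i.2).2
    · have h1 := List.all_eq_true.1 (List.all_eq_true.1 he i (List.mem_range.2 i.2)) j (List.mem_range.2 j.2)
      simp only [Bool.or_eq_true, Bool.and_eq_true, Nat.beq_eq, Bool.not_eq_true'] at h1
      obtain ⟨h2, h3⟩ := h1.resolve_left h
      rw [hq, hq, ha, ha]
      show lab (Q.get 0 i) (Q.get 0 j) ≠ 0 ∧ _
      refine ⟨fun h0 => by rw [h0] at h2; exact absurd h2 (by decide), ?_⟩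
      have h4 := congrArg (Nat.cast : ℕ → ZMod 3) h3
      rw [ZMod.natCast_mod] at h4
      push_cast at h4
      rw [show ((2 : ZMod 3)) = -1 by decide] at h4
      show (lab (Q.get 0 i) (Q.get 0 j) : ZMod 3) = _
      linear_combination h4
  refine ⟨⟨(g, π), hgood⟩, hm, ?_⟩
  show aE ((g, π) : Amb) 0 = _
  rw [ha]
  exact (ZMod.natCast_eq_natCast_iff' _ _ 3).2 ha0

/-- value of a word in the generators -/
noncomputable def evC (w : List ℕ) : CO := w.foldr (fun k acc => mulC (genC.getD k oneC) acc) oneC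

/-- a word uses only the four generators -/
def wordOK (w : List ℕ) : Bool := w.all fun k => Nat.blt k 4

theorem exists_word : ∀ w : List ℕ, wordOK w = true → ∃ e : Cov, Rep e (evC w)
  | [], _ => ⟨1, rep_one⟩
  | k :: w, h => by
    simp only [wordOK, List.all_cons, Bool.and_eq_true, Nat.blt_eq] at h
    obtain ⟨a, ha⟩ := exists_gen k h.1
    obtain ⟨b, hb⟩ := exists_word w h.2
    exact ⟨a * b, ha.mul hb⟩

/-- the projection -/
def proj : Cov →* G := (MonoidHom.fst G (Equiv.Perm Pts)).comp Cov.subtype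

theorem rootW_ok : ((List.range 12).all fun r =>
    wordOK (rootW.getD r []) && eqM (evC (rootW.getD r [])).m (rootR.getD r oneM)) = true := by
  decide +kernel

theorem proj_surjective : Function.Surjective proj := by
  rw [← MonoidHom.range_eq_top, eq_top_iff, ← closure_xg, Subgroup.closure_le]
  rintro _ ⟨r, rfl⟩
  have h := List.all_eq_true.1 rootW_ok r (List.mem_range.2 r.2)
  rw [Bool.and_eq_true] at h
  obtain ⟨e, he⟩ := exists_word _ h.1
  refine ⟨e, rho_injective ?_⟩
  rw [rho_xg]
  exact he.1.trans (eqM_iff.1 h.2)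

/-- a shift of all labels -/
def shiftPerm (c : ZMod 3) : Equiv.Perm Pts where
  toFun p := (p.1, c + p.2)
  invFun p := (p.1, -c + p.2)
  left_inv p := by simp
  right_inv p := by simp

theorem good_shift (c : ZMod 3) : Good ((1, shiftPerm c) : Amb) :=
  ⟨fun i t => by simp [qE, aE, shiftPerm], fun i => by left; simp [qE, shiftPerm, rho_one, one_mulVec],
    fun i j h => by simp [qE, aE, shiftPerm, h]⟩

/-- the central elements -/
def zc (c : ZMod 3) : Cov := ⟨(1, shiftPerm c), good_shift c⟩

theorem rep_zc (c : ZMod 3) : Rep (zc c) ⟨oneM, c.val⟩ := by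
  refine ⟨?_, ?_⟩
  · show rho 1 = decM oneM
    rw [rho_one, decM_one]
  · show (c + 0 : ZMod 3) = (c.val : ZMod 3)
    rw [add_zero, ZMod.natCast_zmod_val]

theorem zc_add (a b : ZMod 3) : zc (a + b) = zc a * zc b :=
  Subtype.ext (Prod.ext (one_mul 1).symm (Equiv.ext fun p => Prod.ext rfl (add_assoc a b p.2)))

theorem zc_injective : Function.Injective zc := fun a b h => by
  have := congrArg (fun e : Cov => aE (e : Amb) 0) h
  simpa [aE, zc, shiftPerm] using this

theorem mem_ker_iff {e : Cov} : e ∈ proj.ker ↔ ∃ c, e = zc c := by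
  constructor
  · intro h
    refine ⟨aE (e : Amb) 0, eq_of_fst ?_ ?_⟩
    · exact h
    · exact (add_zero _).symm
  · rintro ⟨c, rfl⟩
    rfl

theorem zc_central (c : ZMod 3) : zc c ∈ Subgroup.center Cov := by
  rw [Subgroup.mem_center_iff]
  intro e
  refine Subtype.ext (Prod.ext ?_ (Equiv.ext fun p => ?_))
  · show (e : Amb).1 * 1 = 1 * (e : Amb).1
    rw [mul_one, one_mul]
  · obtain ⟨i, t⟩ := p
    show (e : Amb).2 (i, c + t) = shiftPerm c ((e : Amb).2 (i, t))
    rw [e.2.shift, e.2.shift]
    exact Prod.ext rfl (add_left_comm _ _ _)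

/-- the central elements as a homomorphism onto the kernel -/
def kerHom : Multiplicative (ZMod 3) →* proj.ker :=
  MonoidHom.mk' (fun c => ⟨zc c.toAdd, mem_ker_iff.2 ⟨_, rfl⟩⟩) fun a b =>
    Subtype.ext (zc_add a.toAdd b.toAdd)

theorem kerHom_bijective : Function.Bijective kerHom := by
  refine ⟨fun a b h => ?_, fun ⟨e, he⟩ => ?_⟩
  · exact Multiplicative.toAdd.injective (zc_injective (congrArg Subtype.val h))
  · obtain ⟨c, rfl⟩ := mem_ker_iff.1 he
    exact ⟨Multiplicative.ofAdd c, rfl⟩

theorem natCard_ker : Nat.card proj.ker = 3 := by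
  rw [← Nat.card_eq_of_bijective kerHom kerHom_bijective]
  simp

theorem natCard_G : Nat.card G = 4245696 := by
  rw [Cfsg.Agent.S1059.result (F := ZMod 3) (ZMod.card 3)]
  norm_num

theorem natCard_cov : Nat.card Cov = 12737088 := by
  have h := proj.ker.card_mul_index
  rw [Subgroup.index_ker, MonoidHom.range_eq_top.2 proj_surjective,
    Nat.card_congr Subgroup.topEquiv.toEquiv, natCard_ker, natCard_G] at h
  exact h.symm

/-- powers of a code -/
noncomputable def powC (x : CO) : ℕ → CO
  | 0 => oneC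
  | n + 1 => mulC (powC x n) x

theorem Rep.pow {e : Cov} {x : CO} (h : Rep e x) : ∀ n, Rep (e ^ n) (powC x n)
  | 0 => rep_one
  | n + 1 => (h.pow n).mul h

theorem comm_ok : (wordOK commU && wordOK commV && wordOK commU' && wordOK commV' &&
    eqC (mulC (evC commU') (evC commU)) oneC && eqC (mulC (evC commV') (evC commV)) oneC &&
    eqC (powC (mulC (evC commU') (mulC (evC commV') (mulC (evC commU) (evC commV)))) 4) ⟨oneM, 1⟩) = true := by
  decide +kernel

theorem zc_mem_commutator (c : ZMod 3) : zc c ∈ commutator Cov := by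
  have h := comm_ok
  simp only [Bool.and_eq_true] at h
  obtain ⟨⟨⟨⟨⟨⟨h1, h2⟩, h3⟩, h4⟩, h5⟩, h6⟩, h7⟩ := h
  obtain ⟨u, hu⟩ := exists_word _ h1
  obtain ⟨v, hv⟩ := exists_word _ h2
  obtain ⟨u', hu'⟩ := exists_word _ h3
  obtain ⟨v', hv'⟩ := exists_word _ h4
  have eu : u' = u⁻¹ := eq_inv_of_mul_eq_one_left ((eqC_iff (hu'.mul hu) rep_one).1 h5)
  have ev' : v' = v⁻¹ := eq_inv_of_mul_eq_one_left ((eqC_iff (hv'.mul hv) rep_one).1 h6)
  have e1 : (u' * (v' * (u * v))) ^ 4 = zc 1 :=
    (eqC_iff ((hu'.mul (hv'.mul (hu.mul hv))).pow 4) (rep_zc 1)).1 h7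
  have hm : zc 1 ∈ commutator Cov := by
    rw [← e1]
    refine Subgroup.pow_mem _ ?_ _
    have : u' * (v' * (u * v)) = ⁅u⁻¹, v⁻¹⁆ := by
      rw [commutatorElement_def, eu, ev', inv_inv, inv_inv, mul_assoc, mul_assoc]
    rw [this]
    exact Subgroup.commutator_mem_commutator (Subgroup.mem_top _) (Subgroup.mem_top _)
  have hn : ∀ n : ℕ, zc (n : ZMod 3) = zc 1 ^ n := by
    intro n
    induction n with
    | zero =>
      rw [Nat.cast_zero, pow_zero]
      exact (mul_eq_left.1 (zc_add 0 0).symm |> fun h => by simpa using h)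
    | succ n ih => rw [Nat.cast_succ, zc_add, ih, pow_succ]
  rw [← ZMod.natCast_zmod_val c, hn]
  exact Subgroup.pow_mem _ hm _

theorem isStem_proj : Cfsg.IsStemExtension proj := by
  refine ⟨proj_surjective, fun e he => ?_, fun e he => ?_⟩
  · obtain ⟨c, rfl⟩ := mem_ker_iff.1 he
    exact zc_central c
  · obtain ⟨c, rfl⟩ := mem_ker_iff.1 he
    exact zc_mem_commutator c

/-- codes, with a membership test by words -/
noncomputable def code (els : List (CO × List ℕ)) : Code Cov CO where
  rep := Rep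
  mul := mulC
  one := oneC
  eqc := eqC
  okc x := els.any fun q => eqC q.1 x && wordOK q.2 && eqC (evC q.2) q.1
  rep_mul := Rep.mul
  rep_one := rep_one
  eq_iff := eqC_iff
  exists_rep h := by
    obtain ⟨q, -, hq⟩ := List.any_eq_true.1 h
    simp only [Bool.and_eq_true] at hq
    obtain ⟨e, he⟩ := exists_word _ hq.1.2
    exact ⟨e, (he.of_eqC hq.2).of_eqC hq.1.1⟩

/-- the action on labelled points -/
def ptAct : PtAct Cov Pts where
  act e p := (e : Amb).2 p
  act_mul _ _ _ := rfl
  act_one _ := rfl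

/-- image of a labelled point, from a code -/
noncomputable def appP (x : CO) (p : Pts) : Pts :=
  (Fin.ofNat 378 (img x.m p.1), (aLab x p.1 : ZMod 3) + p.2)

theorem act_eq {e : Cov} {x : CO} (h : Rep e x) (p : Pts) : ptAct.act e p = appP x p := by
  obtain ⟨i, t⟩ := p
  show (e : Amb).2 (i, t) = _
  rw [e.2.shift, appP, aLab_eq h, ← qE_eq e.2 h.1]
  exact Prod.ext (Fin.ext (Nat.mod_eq_of_lt (qE (e : Amb) i).2).symm) rfl

/-- equality of labelled points -/
def eqP (v w : Pts) : Bool := Nat.beq v.1.val w.1.val && Nat.beq v.2.val w.2.val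

theorem eqP_iff (v w : Pts) : eqP v w = true ↔ v = w := by
  rw [eqP, Bool.and_eq_true, Nat.beq_eq, Nat.beq_eq, Fin.val_inj, (ZMod.val_injective 3).eq_iff,
    Prod.ext_iff]

end CfsgLib.KnownB.G2Mult
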