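import Cfsg.Agent.Lib.KnownB.G2Mult.Certs
import Cfsg.Agent.Lib.KnownB.Mult.Reduce
import Cfsg.Agent.Lib.Schur.Lift
import Cfsg.Agent.Lib.KnownB.G2Three.Graph

/-! The Schur multiplier of `G₂(3)` has order three. -/

set_option autoImplicit false
set_option maxRecDepth 100000
set_option synthInstance.maxSize 4000
set_option maxHeartbeats 4000000

namespace CfsgLib.KnownB.G2Mult

open CfsgLib.KnownB.Mult

theorem trivial_multiplier : Cfsg.HasCyclicSchurMultiplier Cov 1 := by
  haveI : Finite Cov := Nat.finite_of_card_ne_zero (by rw [natCard_cov]; norm_num)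
  refine hasTrivialMultiplier_of_primeCond fun p hp => ?_
  by_cases h3 : p = 3
  · subst h3
    exact Cert.primeCond_of_notMem cert3_core
      (Cert.notMem_of_levels cert3_core ptAct appP eqP (fun h v => act_eq h v) eqP_iff pts3
        levels3_ok.1 levels3_ok.2)
      (m := 5824) (natCard_cov.trans (by norm_num [cert3])) (by norm_num)
  by_cases h2 : p = 2
  · subst h2
    exact Cert.primeCond cert2_valid (m := 199017)
      (natCard_cov.trans (by norm_num [cert2])) (by norm_num)
  refine primeCond_of_cyclic default (isCyclic_sylow (p := p) ?_ default)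
  intro hd
  rw [natCard_cov, show (12737088 : ℕ) = 2 ^ 6 * 3 ^ 7 * 91 by norm_num] at hd
  have hc : ∀ q k : ℕ, q.Prime → p ≠ q → Nat.Coprime (p ^ 2) (q ^ k) := fun q k hq hne =>
    Nat.Coprime.pow 2 k ((Nat.coprime_primes hp.out hq).2 hne)
  have h91 : p ^ 2 ∣ 91 :=
    ((hc 2 6 Nat.prime_two h2).mul_right (hc 3 7 Nat.prime_three h3)).dvd_of_dvd_mul_left hd
  have hle : p ^ 2 ≤ 91 := Nat.le_of_dvd (by norm_num) h91
  have h9 : p ≤ 9 := by nlinarith
  have hprime := hp.out
  interval_cases p <;> first | (norm_num at hprime; done) | (revert h91 h2 h3; norm_num)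

theorem hasMultiplier {F : Type*} [Field F] [Fintype F] (hF : Fintype.card F = 3) :
    Cfsg.HasCyclicSchurMultiplier ↥(Cfsg.Lie.chevG2.group F) 3 := by
  obtain ⟨q⟩ := CfsgLib.KnownB.G2Three.group_equiv hF
  haveI : Finite Cov := Nat.finite_of_card_ne_zero (by rw [natCard_cov]; norm_num)
  let σ : Cov →* ↥(Cfsg.Lie.chevG2.group F) := q.symm.toMonoidHom.comp proj
  have hker : σ.ker = proj.ker := by
    ext x
    simp [σ, MonoidHom.mem_ker]
  have hs : Cfsg.IsStemExtension σ :=
    ⟨q.symm.surjective.comp proj_surjective, hker ▸ isStem_proj.2.1, hker ▸ isStem_proj.2.2⟩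
  obtain ⟨e⟩ := CfsgLib.Schur.mult_equiv_ker_of_trivial σ hs trivial_multiplier
  exact CfsgLib.Schur.hasSchurMultiplier_iff.2
    ⟨((MulEquiv.ofBijective kerHom kerHom_bijective).trans (MulEquiv.subgroupCongr hker.symm)).trans e.symm⟩

end CfsgLib.KnownB.G2Mult
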